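import Cfsg.Agent.Lib.LocalEvenB.SuzType.Facts

/-!
Finite facts used for counting centralizers and bounding the intersection of two centralizers
(owner: helper20).
-/

set_option autoImplicit false
set_option maxRecDepth 100000
set_option Elab.async false

namespace CfsgLib.LocalEvenB.SuzType

theorem sylow_one : sylow.all (fun p => comp p.1 one == p.1) = true := by decide +kernel

/-- The vectors fixed by `rho v` and killed by the functional of `m`. -/
def kerList (v m : Nat) : List Nat := (List.range 64).filter fun n => fixB (rho v) n && !bb m n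

theorem kerList_len : ∀ v ∈ [4, 16], (List.range 64).all (fun m => decide (8 ≤ (kerList v m).length)) = true := by
  decide +kernel

theorem kerList_rad : (List.range 64).all (fun m => !(fixB (rho 16) m) || bb 32 m || m == 0 || m == 1 ||
    (kerList 16 32).any fun n => bb n m) = true := by decide +kernel

theorem kerList_basis : [1, 4, 8].all (fun n => (kerList 16 32).contains n) = true := by decide +kernel

theorem far_shift : (32 ^^^ (app (rho 16) 2 ^^^ 2)) ≠ 0 ∧ (32 ^^^ (app (rho 16) 2 ^^^ 2)) ≠ 1 := by
  decide +kernel

theorem bb_table : bb 2 1 = true ∧ bb 2 4 = false ∧ bb 2 8 = false ∧ bb 16 1 = false ∧ bb 16 4 = false ∧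
    bb 16 8 = false ∧ bb 32 1 = false ∧ bb 32 4 = false ∧ bb 32 8 = false ∧ qb 2 = false ∧ qb 16 = true ∧
    qb 32 = true ∧ bb 16 32 = true ∧ bb 2 16 = false ∧ bb 2 32 = false := by decide +kernel

end CfsgLib.LocalEvenB.SuzType
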