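import Cfsg.Agent.Lib.LocalEvenB.SuzType.Create
import Cfsg.Agent.Lib.LocalEvenB.SuzType.Finite

/-!
Frames, the involutions up to conjugacy and the size of their centralizers in `Q` (owner: helper20).
-/

set_option autoImplicit false
set_option linter.unusedSectionVars false
set_option linter.unusedVariables false
set_option linter.style.haveILetI false
set_option quotPrecheck false

namespace CfsgLib.LocalEvenB.SuzType

open CfsgLib.ThreeTrans

variable {G : Type*} [Group G] [Finite G] {z : G} {Q : Subgroup G} {p : G → Nat} {k : G}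

theorem conj_pair {g x : G} (hx : x * x = 1) : g * x * g⁻¹ * (g * x * g⁻¹) = 1 := conj_sq_one hx g

namespace Sys

variable (h : Sys z Q p)
include h

/-- A singular vector can be moved to the first one. -/
theorem to_one {y : G} (hy : y ∈ Q) (hyy : y * y = 1) (h1 : y ≠ 1) (hz : y ≠ z) :
    ∃ c : G, Commute c z ∧ p (c * y * c⁻¹) = 1 := by
  have hq : qb (p y) = false := h.sg_inj ((h.sq y hy).symm.trans (hyy.trans rfl))
  have h0 : p y ≠ 0 := fun e => (h.ker y hy e).elim h1 hz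
  have hm := List.all_eq_true.1 toOne_ok (p y) (List.mem_range.2 (h.lt y hy))
  simp only [hq, Bool.or_eq_true, beq_iff_eq, h0, Bool.false_eq_true, or_false, false_or,
    List.any_eq_true, Bool.and_eq_true] at hm
  obtain ⟨w, -, hwn, hw1⟩ := hm
  obtain ⟨hl, c, hc⟩ := h.acts_word w.2
  exact ⟨c, hc.1, by rw [hc.2 y hy, hw1]⟩

/-- The elements inducing members of the chosen Sylow subgroup. -/
theorem exists_sylow : ∃ T : Subgroup G, Nat.card T = 2 ^ 13 ∧ Q ≤ T ∧
    ∀ c ∈ T, ∃ r ∈ sylow, r.1.length = 6 ∧ Acts z Q p c r.1 := by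
  classical
  have hlen : ∀ r ∈ sylow, r.1.length = 6 := by
    intro r hr
    rw [beq_iff_eq.1 (List.all_eq_true.1 sylow_words r hr)]
    exact (h.acts_word r.2).1
  have hmul : ∀ {c d : G}, (∃ r ∈ sylow, r.1.length = 6 ∧ Acts z Q p c r.1) →
      (∃ r ∈ sylow, r.1.length = 6 ∧ Acts z Q p d r.1) → ∃ r ∈ sylow, r.1.length = 6 ∧ Acts z Q p (c * d) r.1 := by
    rintro c d ⟨a, ha, hla, hca⟩ ⟨b, hb, hlb, hdb⟩
    have := List.all_eq_true.1 (List.all_eq_true.1 sylow_closed a ha) b hb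
    rw [List.contains_iff_mem, List.mem_map] at this
    obtain ⟨r, hr, e⟩ := this
    exact ⟨r, hr, hlen r hr, e ▸ h.acts_mul hlb hca hdb⟩
  have hQs : ∀ c ∈ Q, ∃ r ∈ sylow, r.1.length = 6 ∧ Acts z Q p c r.1 := fun c hc =>
    ⟨_, List.mem_cons_self, rfl, h.acts_of_mem hc⟩
  let M : Submonoid G :=
    { carrier := {c | ∃ r ∈ sylow, r.1.length = 6 ∧ Acts z Q p c r.1}
      one_mem' := hQs 1 Q.one_mem
      mul_mem' := fun ha hb => hmul ha hb }
  let T : Subgroup G :=
    { M with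
      inv_mem' := fun {c} hc => by
        have h1 : c⁻¹ ∈ Submonoid.powers c :=
          (isOfFinOrder_of_finite c).mem_powers_iff_mem_zpowers.2 (inv_mem (Subgroup.mem_zpowers c))
        exact (Submonoid.powers_le.2 hc : Submonoid.powers c ≤ M) h1 }
  have hT : ∀ c, c ∈ T ↔ ∃ r ∈ sylow, r.1.length = 6 ∧ Acts z Q p c r.1 := fun c => Iff.rfl
  have hlift : ∀ i : Fin sylow.length, ∃ c, Acts z Q p c (sylow[(i : ℕ)]'i.2).1 := fun i => by
    rw [beq_iff_eq.1 (List.all_eq_true.1 sylow_words _ (List.getElem_mem i.2))]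
    exact (h.acts_word _).2
  choose cl hcl using hlift
  have hmem : ∀ i (q : Q), Acts z Q p (cl i * q) (sylow[(i : ℕ)]'i.2).1 := fun i q => by
    have := h.acts_mul (show one.length = 6 from rfl) (hcl i) (h.acts_of_mem q.2)
    rwa [beq_iff_eq.1 (List.all_eq_true.1 sylow_one _ (List.getElem_mem i.2))] at this
  let f : Fin sylow.length × Q → T := fun x =>
    ⟨cl x.1 * x.2, _, List.getElem_mem x.1.2, hlen _ (List.getElem_mem x.1.2), hmem x.1 x.2⟩
  have hf : Function.Bijective f := by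
    constructor
    · rintro ⟨i, q⟩ ⟨j, r⟩ e
      have e' : cl i * q = cl j * r := congrArg Subtype.val e
      have hij := h.acts_unique (hlen _ (List.getElem_mem i.2)) (hlen _ (List.getElem_mem j.2)) (hmem i q)
        (e' ▸ hmem j r)
      obtain rfl : i = j := Fin.ext ((List.Nodup.getElem_inj_iff sylow_nodup
        (hi := by simp) (hj := by simp)).1 (by simpa using hij))
      exact Prod.ext rfl (Subtype.ext (mul_left_cancel e'))
    · rintro ⟨c, r, hr, hl, hc⟩
      obtain ⟨i, hi, rfl⟩ := List.getElem_of_mem hr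
      exact ⟨⟨⟨i, hi⟩, ⟨(cl ⟨i, hi⟩)⁻¹ * c, h.inv_mul_mem (hcl _) hc⟩⟩, Subtype.ext (mul_inv_cancel_left _ _)⟩
  refine ⟨T, ?_, fun c hc => hQs c hc, fun c hc => (hT c).1 hc⟩
  rw [← Nat.card_eq_of_bijective f hf, Nat.card_prod, Nat.card_fin, sylow_card, h.card]
  norm_num

/-- Every involution is conjugate into the centralizer of `z`, and there into the chosen subgroup. -/
theorem exists_inv_reps : ∃ T : Subgroup G, Q ≤ T ∧ (∀ c ∈ T, ∃ r ∈ sylow, r.1.length = 6 ∧ Acts z Q p c r.1) ∧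
    (∀ x : G, x * x = 1 → ∃ g : G, Commute (g * x * g⁻¹) z) ∧
    ∀ x : G, x * x = 1 → Commute x z → ∃ c : G, Commute c z ∧ c * x * c⁻¹ ∈ T := by
  haveI : Fact (Nat.Prime 2) := ⟨Nat.prime_two⟩
  obtain ⟨T, hcard, hQT, hT⟩ := h.exists_sylow
  have hTC : T ≤ Subgroup.centralizer ({z} : Set G) := fun c hc => by
    obtain ⟨r, -, -, hr⟩ := hT c hc
    exact mem_centralizer_singleton_iff'.2 hr.1.eq
  have hinv : ∀ {K : Type _} [Group K] (x : K), x * x = 1 → IsPGroup 2 (Subgroup.zpowers x) := by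
    intro K _ x hx y
    obtain ⟨n, hn⟩ := y.2
    refine ⟨1, Subtype.ext ?_⟩
    rw [SubgroupClass.coe_pow, pow_one, OneMemClass.coe_one, ← hn]
    show (x ^ n) ^ 2 = 1
    rw [← zpow_natCast (x ^ n), ← zpow_mul, mul_comm, zpow_mul, zpow_natCast, pow_two x, hx, one_zpow]
  refine ⟨T, hQT, hT, ?_, ?_⟩
  · obtain ⟨P, hTP⟩ := (show IsPGroup 2 T from IsPGroup.of_card hcard).exists_le_sylow
    have hzP : z ∈ (P : Subgroup G) := hTP (hQT h.large.z_mem)
    have hPC : (P : Subgroup G) ≤ Subgroup.centralizer ({z} : Set G) := by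
      haveI : Nontrivial (P : Subgroup G) :=
        ⟨⟨⟨z, hzP⟩, 1, fun e => h.large.z_ne_one (congrArg Subtype.val e)⟩⟩
      haveI := P.isPGroup'.center_nontrivial
      obtain ⟨⟨⟨w, hw⟩, hwc⟩, hne⟩ := exists_ne (1 : Subgroup.center (↥(P : Subgroup G)))
      have hcomm : ∀ q ∈ (P : Subgroup G), q * w = w * q := fun q hq =>
        congrArg Subtype.val (Subgroup.mem_center_iff.1 hwc ⟨q, hq⟩)
      have hwz : w ∈ Subgroup.zpowers z := by
        rw [← h.large.hcent, Subgroup.mem_centralizer_iff]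
        exact fun q hq => hcomm q (hTP (hQT hq))
      rcases h.large.eq_or hwz with e | e
      · exact absurd (Subtype.ext (Subtype.ext e)) hne
      · intro q hq
        exact mem_centralizer_singleton_iff'.2 (e ▸ hcomm q hq)
    intro x hx
    obtain ⟨R, hR⟩ := (hinv x hx).exists_le_sylow
    obtain ⟨g, hg⟩ := MulAction.exists_smul_eq G R P
    exact ⟨g, mem_centralizer_singleton_iff'.1
      (hPC (by rw [← hg, Sylow.coe_subgroup_smul]; exact ⟨x, hR (Subgroup.mem_zpowers x), rfl⟩))⟩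
  · intro x hx hxz
    set C := Subgroup.centralizer ({z} : Set G) with hC
    have hfac : (Nat.card C).factorization 2 = 13 := by
      rw [h.cardC, show (2 : ℕ) ^ 7 * 25920 = 2 ^ 13 * 405 by norm_num,
        Nat.factorization_def _ Nat.prime_two, padicValNat.mul (by norm_num) (by norm_num),
        padicValNat.prime_pow, padicValNat.eq_zero_of_not_dvd (by norm_num)]
    let S : Sylow 2 C := Sylow.ofCard (T.subgroupOf C)
      (by rw [hfac, Nat.card_congr (Subgroup.subgroupOfEquivOfLe hTC).toEquiv, hcard])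
    obtain ⟨R, hR⟩ := (hinv (⟨x, mem_centralizer_singleton_iff'.2 hxz.eq⟩ : C) (Subtype.ext hx)).exists_le_sylow
    obtain ⟨g, hg⟩ := MulAction.exists_smul_eq C R S
    refine ⟨g, mem_centralizer_singleton_iff'.1 g.2, ?_⟩
    have : g * ⟨x, mem_centralizer_singleton_iff'.2 hxz.eq⟩ * g⁻¹ ∈ (S : Subgroup C) := by
      rw [← hg, Sylow.coe_subgroup_smul]
      exact ⟨_, hR (Subgroup.mem_zpowers _), rfl⟩
    exact Subgroup.mem_subgroupOf.1 this

/-- An involution outside `Q` is conjugate in the centralizer of `z` to one inducing a standard map. -/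
theorem cases_invol {t : G} (htz : Commute t z) (htt : t * t = 1) (htQ : t ∉ Q) :
    ∃ c : G, Commute c z ∧ (Acts z Q p (c * t * c⁻¹) (rho 4) ∨ Acts z Q p (c * t * c⁻¹) (rho 16)) := by
  obtain ⟨T, -, hT, -, hloc⟩ := h.exists_inv_reps
  obtain ⟨c1, hc1, hmem⟩ := hloc t htt htz
  obtain ⟨⟨A, w⟩, hA, hl, hact⟩ := hT _ hmem
  have hne : A ≠ one := by
    rintro rfl
    have hq := h.large.conj_mem hc1.inv_left (h.mem_of_acts_one hact)
    rw [show c1⁻¹ * (c1 * t * c1⁻¹) * c1⁻¹⁻¹ = t by group] at hq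
    exact htQ hq
  have hsq : comp A A = one := by
    refine h.acts_unique (by rw [length_comp, hl]) rfl ?_ h.acts_one
    have := h.acts_mul hl hact hact
    rwa [conj_sq_one htt] at this
  have hm := List.all_eq_true.1 sylow_invol _ hA
  simp only [Bool.or_eq_true, beq_iff_eq, Bool.not_eq_true', beq_eq_false_iff_ne, ne_eq,
    List.any_eq_true] at hm
  rcases hm with (e | e) | ⟨⟨A', w', b⟩, hr, e⟩
  · exact absurd e hne
  · exact absurd hsq e
  obtain rfl : A' = A := e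
  have hok := List.all_eq_true.1 invol_ok _ hr
  rw [beq_iff_eq] at hok
  obtain ⟨hlw, c2, hc2⟩ := h.acts_word w'
  have := h.acts_conj hlw hl (List.length_map _ : (rho (bif b then 16 else 4)).length = 6) hc2 hact hok
  refine ⟨c2 * c1, hc2.1.mul_left hc1, ?_⟩
  rw [show c2 * c1 * t * (c2 * c1)⁻¹ = c2 * (c1 * t * c1⁻¹) * c2⁻¹ by group]
  cases b
  · exact Or.inl this
  · exact Or.inr this

/-- Elements of a coset of `Q` with a known action have large centralizers in `Q`. -/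
theorem sixteen_of_base {v m0 : Nat} {t t1 : G} (hv : v ∈ [4, 16]) (hm0 : m0 < 64)
    (htA : Acts z Q p t (rho v))
    (ht : ∀ a ∈ Q, app (rho v) (p a) = p a → t * a * t⁻¹ = a * sg z (bb m0 (p a)))
    (ht1 : Acts z Q p t1 (rho v)) :
    16 ≤ Nat.card (Q ⊓ Subgroup.centralizer ({t1} : Set G) : Subgroup G) := by
  have hq : t⁻¹ * t1 ∈ Q := h.inv_mul_mem htA ht1
  set q := t⁻¹ * t1 with hqdef
  have hlt : m0 ^^^ p q < 64 := Nat.xor_lt_two_pow (n := 6) hm0 (h.lt q hq)
  have hlen := List.all_eq_true.1 (kerList_len v hv) _ (List.mem_range.2 hlt)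
  rw [decide_eq_true_eq] at hlen
  refine h.sixteen_le ((kerList v (m0 ^^^ p q)).take 8) (List.nodup_range.filter _ |>.take) ?_ ?_ ht1.1.symm
  · rw [List.length_take]
    omega
  · intro n hn
    have hn' := List.mem_of_mem_take hn
    simp only [kerList, List.mem_filter, List.mem_range, Bool.and_eq_true, Bool.not_eq_true', fixB,
      beq_iff_eq] at hn'
    refine ⟨hn'.1, fun a ha hpa => ?_⟩
    subst hpa
    have e : t1 * a * t1⁻¹ = a := by
      rw [show t1 = t * q by rw [hqdef, mul_inv_cancel_left],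
        show t * q * a * (t * q)⁻¹ = t * (q * a * q⁻¹) * t⁻¹ by group, h.conj_eq ha hq,
        show t * (a * sg z (bb (p q) (p a))) * t⁻¹ = t * a * t⁻¹ * (t * sg z (bb (p q) (p a)) * t⁻¹) by group,
        ht a ha hn'.2.1, (h.sg_comm htA.1 _).eq, mul_inv_cancel_right, mul_assoc, h.sg_mul, ← bb_xor_left,
        hn'.2.2]
      exact mul_one a
    exact (mul_inv_eq_iff_eq_mul.1 e).symm

end Sys

namespace Frame

variable (F : Frame z Q p k)
include F

/-- Transport of a frame. -/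
theorem move (h : G) :
    Frame (h * z * h⁻¹) (Q.map (MulAut.conj h).toMonoidHom) (fun a => p (h⁻¹ * a * h)) (h * k * h⁻¹) := by
  refine ⟨F.sys.conj h, ?_, ?_, ?_, ?_⟩
  · rw [mem_conjMap, show h⁻¹ * (h * k * h⁻¹ * (h * z * h⁻¹) * (h * k * h⁻¹)⁻¹) * h = k * z * k⁻¹ by group]
    exact F.memQ
  · rw [mem_conjMap, show h⁻¹ * ((h * k * h⁻¹)⁻¹ * (h * z * h⁻¹) * (h * k * h⁻¹)) * h = k⁻¹ * z * k by group]
    exact F.memP
  · show p _ = 1
    rw [show h⁻¹ * (h * k * h⁻¹ * (h * z * h⁻¹) * (h * k * h⁻¹)⁻¹) * h = k * z * k⁻¹ by group]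
    exact F.px
  · show p _ = 1
    rw [show h⁻¹ * ((h * k * h⁻¹)⁻¹ * (h * z * h⁻¹) * (h * k * h⁻¹)) * h = k⁻¹ * z * k by group]
    exact F.pz

/-- An involution of the centralizer of `z` outside `Q` has centralizer of order at least 16 in `Q`. -/
theorem card_ge {t : G} (htz : Commute t z) (htt : t * t = 1) (htQ : t ∉ Q) :
    16 ≤ Nat.card (Q ⊓ Subgroup.centralizer ({t} : Set G) : Subgroup G) := by
  obtain ⟨c, hc, hcases⟩ := F.sys.cases_invol htz htt htQ
  have hle : Nat.card (Q ⊓ Subgroup.centralizer ({c * t * c⁻¹} : Set G) : Subgroup G) ≤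
      Nat.card (Q ⊓ Subgroup.centralizer ({t} : Set G) : Subgroup G) := by
    refine Nat.card_le_card_of_injective (fun a => ⟨c⁻¹ * a * c, ?_, ?_⟩) fun a b e => ?_
    · have := F.sys.large.conj_mem hc.inv_left a.2.1
      rwa [inv_inv] at this
    · refine mem_centralizer_singleton_iff'.2 ?_
      have := mem_centralizer_singleton_iff'.1 a.2.2
      refine (LargeData.commute_conj_iff' (g := c)).1 ?_
      rwa [show c * (c⁻¹ * (a : G) * c) * c⁻¹ = (a : G) by group]
    · exact Subtype.ext (mul_left_cancel (mul_right_cancel (congrArg Subtype.val e)))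
  refine le_trans ?_ hle
  rcases hcases with hA | hA
  · obtain ⟨s, hs, hsA, -, -, -, hfix⟩ := F.exists_near
    refine F.sys.sixteen_of_base (v := 4) (m0 := 0) (by simp) (by norm_num) hsA (fun a ha hf => ?_) hA
    rw [show bb 0 (p a) = false by simp [bb, qb], show sg z false = 1 from rfl, mul_one,
      ← (hfix a ha hf).eq, mul_inv_cancel_right]
  · obtain ⟨s, hs, r, hr, -, -, hsrA, -, hfix⟩ := F.exists_far
    exact F.sys.sixteen_of_base (v := 16) (m0 := 32) (by simp) (by norm_num) hsrA hfix hA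

/-- An involution inducing `rho 4` is conjugate to `z`. -/
theorem near_class {t : G} (hA : Acts z Q p t (rho 4)) (htt : t * t = 1) : IsConj z t := by
  obtain ⟨s, hs, hsA, hss, hzs, hzsz, hfix⟩ := F.exists_near
  obtain ⟨q, hq, rfl, hf, e⟩ := F.sys.coset hss htt hsA hA
  rw [← (hfix q hq hf).eq, mul_inv_cancel_right] at e
  have hqb : qb (p q) = false := (F.sys.sg_inj (mul_left_cancel ((mul_one q).trans e))).symm
  have him := List.all_eq_true.1 inner_fix _ (List.mem_range.2 (F.sys.lt q hq))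
  simp only [fixB, hf, hqb, beq_self_eq_true, Bool.not_true, Bool.false_or] at him
  obtain ⟨β, hβ, e' | e'⟩ := F.sys.conj_of_im hss hsA hq him
  · exact hzs.trans (isConj_iff.2 ⟨β, e'⟩)
  · refine hzsz.trans (isConj_iff.2 ⟨β, ?_⟩)
    rw [show β * (s * z) * β⁻¹ = β * s * β⁻¹ * (β * z * β⁻¹) by group, e', (F.sys.large.commute_z hβ).eq,
      mul_inv_cancel_right, mul_assoc, F.sys.large.mul_self_z, mul_one]

/-- The involutions up to conjugacy: `z` and one further element. -/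
theorem classify : ∃ s ∈ Q.map (MulAut.conj k).toMonoidHom, ∃ r ∈ Q, p r = 32 ∧ Acts z Q p (s * r) (rho 16) ∧
    s * r * (s * r) = 1 ∧
    (∀ a ∈ Q, app (rho 16) (p a) = p a → s * r * a * (s * r)⁻¹ = a * sg z (bb 32 (p a))) ∧
    ∀ x : G, x * x = 1 → x ≠ 1 → IsConj z x ∨ IsConj (s * r) x := by
  obtain ⟨s, hs, r, hr, hpr, -, htA, htt, hfix⟩ := F.exists_far
  refine ⟨s, hs, r, hr, hpr, htA, htt, hfix, fun x hx hx1 => ?_⟩
  obtain ⟨T, -, -, hglob, -⟩ := F.sys.exists_inv_reps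
  obtain ⟨g, hg⟩ := hglob x hx
  have hc : IsConj x (g * x * g⁻¹) := isConj_iff.2 ⟨g, rfl⟩
  suffices hsuff : IsConj z (g * x * g⁻¹) ∨ IsConj (s * r) (g * x * g⁻¹) from
    hsuff.imp (fun e => e.trans hc.symm) (fun e => e.trans hc.symm)
  have h2 : g * x * g⁻¹ * (g * x * g⁻¹) = 1 := conj_sq_one hx g
  by_cases hQ : g * x * g⁻¹ ∈ Q
  · left
    by_cases he : g * x * g⁻¹ = z
    · rw [he]
    · exact F.inner hQ h2 (fun e => hx1 (conj_eq_one_iff.1 e)) he
  obtain ⟨c, hcz, hA⟩ := F.sys.cases_invol hg h2 hQ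
  have hc2 : IsConj (g * x * g⁻¹) (c * (g * x * g⁻¹) * c⁻¹) := isConj_iff.2 ⟨c, rfl⟩
  rcases hA with hA | hA
  · exact Or.inl ((F.near_class hA (conj_sq_one h2 c)).trans hc2.symm)
  · exact Or.inr ((F.far_class htA htt hfix hA (conj_sq_one h2 c)).trans hc2.symm)

end Frame

/-- Some frame exists. -/
theorem Hyp.exists_frame (h : Hyp z Q) (hn : ∃ g : G, g * z * g⁻¹ ∈ Q ∧ g * z * g⁻¹ ≠ z) :
    ∃ p k, Frame z Q p k := by
  obtain ⟨p, hs⟩ := h.exists_sys
  obtain ⟨g, hgQ, hgz⟩ := hn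
  have hzz := hs.large.mul_self_z
  obtain ⟨c, hc, hpc⟩ := hs.to_one hgQ (conj_sq_one hzz g)
    (fun e => hs.large.z_ne_one (conj_eq_one_iff.1 e)) hgz
  set k1 := c * g with hk1
  have e1 : c * (g * z * g⁻¹) * c⁻¹ = k1 * z * k1⁻¹ := by rw [hk1]; group
  rw [e1] at hpc
  have hx : k1 * z * k1⁻¹ ∈ Q := e1 ▸ hs.large.conj_mem hc hgQ
  have hy : k1⁻¹ * z * k1 ∈ Q := mem_conjMap.1 (hs.large.mem_conj (by rw [h.card]; norm_num) hx)
  obtain ⟨d, hd, hpd⟩ := hs.to_one hy
    (by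
      have := conj_sq_one hzz k1⁻¹
      rwa [inv_inv] at this)
    (fun e => hs.large.z_ne_one (by
      calc z = k1 * (k1⁻¹ * z * k1) * k1⁻¹ := by group
        _ = 1 := by rw [e]; group))
    (fun e => zero_ne_one (α := ℕ) (by
      rw [← hpc, show k1 * z * k1⁻¹ = k1 * (k1⁻¹ * z * k1) * k1⁻¹ by rw [e],
        show k1 * (k1⁻¹ * z * k1) * k1⁻¹ = z by group, hs.z0]))
  have e2 : k1 * d⁻¹ * z * (k1 * d⁻¹)⁻¹ = k1 * z * k1⁻¹ := by
    rw [show k1 * d⁻¹ * z * (k1 * d⁻¹)⁻¹ = k1 * (d⁻¹ * z * d) * k1⁻¹ by group,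
      hd.inv_left.eq, inv_mul_cancel_right]
  have e3 : (k1 * d⁻¹)⁻¹ * z * (k1 * d⁻¹) = d * (k1⁻¹ * z * k1) * d⁻¹ := by group
  refine ⟨p, k1 * d⁻¹, hs, ?_, ?_, ?_, ?_⟩
  · rw [e2]; exact hx
  · rw [e3]; exact hs.large.conj_mem hd hy
  · rw [e2]; exact hpc
  · rw [e3]; exact hpd

end CfsgLib.LocalEvenB.SuzType
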