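import Cfsg.Agent.Lib.LocalEvenB.SuzType.Outer
import Cfsg.Agent.Lib.PGroups.ExtraspecialOut
import Cfsg.Agent.Lib.Recog.FiM22Two.OrthSixMinus

/-!
The coordinates exist as soon as `Q` is extraspecial of order `2 ^ 7` and `C(z)/Q` has order 25920
(owner: helper20).
-/

set_option autoImplicit false
set_option linter.unusedSectionVars false
set_option linter.style.haveILetI false
set_option maxRecDepth 100000

namespace CfsgLib.LocalEvenB.SuzType

open Cfsg CfsgLib.ThreeTrans Matrix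

local notation "Ix" => ((Fin 2 ⊕ Fin 2) ⊕ Fin 2)
local notation "R6" => Cfsg.quadFormMinus 2 (ZMod 2) 1 1

/-- Position of a coordinate. -/
def idx : Ix → Nat
  | .inl (.inl i) => 2 * i.1
  | .inl (.inr i) => 2 * i.1 + 1
  | .inr i => 4 + i.1

/-- One coordinate as a number. -/
def eterm (v : Ix → ZMod 2) (i : Ix) : Nat := if v i = 1 then 2 ^ idx i else 0

/-- The number of a vector. -/
def enc (v : Ix → ZMod 2) : Nat :=
  eterm v (.inl (.inl 0)) ^^^ (eterm v (.inl (.inr 0)) ^^^ (eterm v (.inl (.inl 1)) ^^^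
    (eterm v (.inl (.inr 1)) ^^^ (eterm v (.inr 0) ^^^ eterm v (.inr 1)))))

/-- The vector of a number. -/
def vec (n : Nat) : Ix → ZMod 2 := fun i => if n.testBit (idx i) then 1 else 0

/-- The matrix of a map. -/
def matOf (A : List Nat) : Matrix Ix Ix (ZMod 2) :=
  fun i j => if (A.getD (idx j) 0).testBit (idx i) then 1 else 0

theorem eterm_add (v w : Ix → ZMod 2) (i : Ix) : eterm (v + w) i = eterm v i ^^^ eterm w i := by
  unfold eterm
  have h : ∀ a b : ZMod 2, (a = 1 ∨ a = 0) ∧ (b = 1 ∨ b = 0) := by decide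
  rw [Pi.add_apply]
  rcases (h (v i) (w i)).1 with e1 | e1 <;> rcases (h (v i) (w i)).2 with e2 | e2 <;> rw [e1, e2] <;>
    simp [show (1 : ZMod 2) + 1 = 0 from rfl]

theorem enc_add (v w : Ix → ZMod 2) : enc (v + w) = enc v ^^^ enc w := by
  simp only [enc, eterm_add]
  ac_rfl

theorem enc_facts : ∀ v : Ix → ZMod 2, enc v < 64 ∧ (qb (enc v) = true ↔ R6 v = 1) ∧ (enc v = 0 ↔ v = 0) := by
  decide +kernel

theorem enc_vec : ∀ n < 64, enc (vec n) = n := by decide +kernel

theorem matOf_ok : ∀ g ∈ gens, matOf g * matOf g * matOf g = 1 ∧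
    ∀ v : Ix → ZMod 2, enc (matOf g *ᵥ v) = app g (enc v) ∧ R6 (matOf g *ᵥ v) = R6 v := by decide +kernel

/-- The hypotheses. -/
structure Hyp {G : Type*} [Group G] (z : G) (Q : Subgroup G) : Prop where
  large : LargeData z Q
  card : Nat.card Q = 128
  cardC : Nat.card (Subgroup.centralizer ({z} : Set G)) = 2 ^ 7 * 25920

variable {G : Type*} [Group G] [Finite G] {z : G} {Q : Subgroup G} (h : Hyp z Q)
include h

theorem Hyp.exists_sys : ∃ p : G → Nat, Sys z Q p := by
  classical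
  haveI : Fact (Nat.Prime 2) := ⟨Nat.prime_two⟩
  have hE := h.large.hE
  set C := Subgroup.centralizer ({z} : Set G) with hC
  have hcz : ∀ c : C, Commute (c : G) z := fun c => mem_centralizer_singleton_iff'.1 c.2
  let act : C →* MulAut Q := MonoidHom.mk' (fun c =>
    { toFun := fun a => ⟨c * a * (c : G)⁻¹, h.large.conj_mem (hcz c) a.2⟩
      invFun := fun a => ⟨(c : G)⁻¹ * a * c, by
        have := h.large.conj_mem (hcz c).inv_left a.2
        rwa [inv_inv] at this⟩
      left_inv := fun a => Subtype.ext (by simp [mul_assoc])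
      right_inv := fun a => Subtype.ext (by simp [mul_assoc])
      map_mul' := fun a b => Subtype.ext (by simp [mul_assoc]) })
    (fun c d => MulEquiv.ext fun a => Subtype.ext (by simp [mul_assoc]))
  have hact : ∀ (c : C) (a : Q), ((act c a : Q) : G) = c * a * (c : G)⁻¹ := fun c a => rfl
  have hconj : ∀ (b a : Q), b * a * b⁻¹ * a⁻¹ ∈ Subgroup.center Q := fun b a =>
    CfsgLib.PGroups.IsExtraspecial.comm_mem hE b a
  -- kernel and image for any coordinates
  have key : ∀ {ι : Type} [Fintype ι] [DecidableEq ι] (R : (ι → ZMod 2) → ZMod 2)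
      (Co : CfsgLib.PGroups.ExtraspecialOut.Coords Q R), ∃ ψ : C →* Matrix.GeneralLinearGroup ι (ZMod 2),
      ψ.range ≤ Cfsg.isometryGroup (ZMod 2) R ∧ Nat.card ψ.range = 25920 ∧
      ∀ (c : C) (a : Q), (ψ c : Matrix ι ι (ZMod 2)) *ᵥ Co.π a = Co.π (act c a) := by
    intro ι _ _ R Co
    obtain ⟨Φ, hΦ⟩ := Co.exists_hom hE
    refine ⟨Φ.comp act, ?_, ?_, fun c a => hΦ (act c) a⟩
    · rintro _ ⟨c, rfl⟩ u v
      obtain ⟨a, rfl⟩ := Co.surj u
      show R ((Φ (act c) : Matrix ι ι (ZMod 2)) *ᵥ Co.π a) = R (Co.π a)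
      rw [hΦ, Co.sq, Co.sq, ← map_mul (act c)]
      exact CfsgLib.PGroups.ExtraspecialOut.bit_map (act c).toMonoidHom (act c).injective _
    · have hker : (Φ.comp act).ker = Q.subgroupOf C := by
        ext c
        rw [MonoidHom.mem_ker, Subgroup.mem_subgroupOf]
        constructor
        · intro hc
          refine h.large.mem_of_trivial (hcz c) fun a ha => ?_
          have e := hΦ (act c) ⟨a, ha⟩
          rw [show Φ (act c) = 1 from hc, Units.val_one, one_mulVec] at e
          rw [Co.pi_eq, h.large.center_mem_iff] at e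
          have e' : a⁻¹ * ((c : G) * a * (c : G)⁻¹) ∈ Subgroup.zpowers z := e
          have hca : Commute a (a⁻¹ * ((c : G) * a * (c : G)⁻¹)) := by
            rcases h.large.eq_or e' with e1 | e1 <;> rw [e1]
            exacts [Commute.one_right a, h.large.commute_z ha]
          have : (c : G) * a * (c : G)⁻¹ * a⁻¹ = a⁻¹ * ((c : G) * a * (c : G)⁻¹) := by
            calc (c : G) * a * (c : G)⁻¹ * a⁻¹ = a * (a⁻¹ * ((c : G) * a * (c : G)⁻¹)) * a⁻¹ := by group
              _ = _ := by rw [hca.eq, mul_inv_cancel_right]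
          rw [this]
          exact e'
        · intro hc
          apply Units.ext
          show (Φ (act c) : Matrix ι ι (ZMod 2)) = ((1 : Matrix.GeneralLinearGroup ι (ZMod 2)) : Matrix ι ι (ZMod 2))
          refine Matrix.ext_of_mulVec_single fun j => ?_
          obtain ⟨a, ha⟩ := Co.surj (Pi.single j 1)
          rw [← ha, hΦ, Units.val_one, one_mulVec, Co.pi_eq]
          have e : a⁻¹ * act c a = a⁻¹ * ((⟨c, hc⟩ : Q) * a * (⟨c, hc⟩ : Q)⁻¹) := Subtype.ext rfl
          rw [← inv_mem_iff, _root_.mul_inv_rev, inv_inv, e]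
          have := hconj ⟨c, hc⟩ a
          have hh := Subgroup.Normal.conj_mem inferInstance _ this a⁻¹
          rw [inv_inv] at hh
          have e2 : a⁻¹ * ((⟨c, hc⟩ : Q) * a * (⟨c, hc⟩ : Q)⁻¹ * a⁻¹) * a =
              a⁻¹ * ((⟨c, hc⟩ : Q) * a * (⟨c, hc⟩ : Q)⁻¹) := by group
          rw [e2] at hh
          exact hh
      have h1 := (Φ.comp act).ker.card_mul_index
      rw [Subgroup.index_ker, hker, Nat.card_congr (Subgroup.subgroupOfEquivOfLe h.large.le_centralizer).toEquiv,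
        h.card, h.cardC] at h1
      omega
  rcases CfsgLib.PGroups.ExtraspecialOut.exists_coords hE 3 h.card with hCo | ⟨-, hCo⟩
  · exfalso
    obtain ⟨Co⟩ := hCo
    obtain ⟨ψ, hle, hcard, -⟩ := key _ Co
    have h1 := Subgroup.card_dvd_of_le hle
    rw [hcard, show quadFormPlus 3 (ZMod 2) = ⇑(CfsgLib.Classical.Quad.qPlus 3 (ZMod 2)) from
      (CfsgLib.Classical.Quad.coe_qPlus 3 (ZMod 2)).symm,
      CfsgLib.Classical.Quad.card_isometryGroup_eq (CfsgLib.Classical.Quad.qPlus 3 (ZMod 2)) rfl,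
      CfsgLib.Classical.Quad.card_OQ_qPlus (ZMod.card 2) 2] at h1
    simp [Finset.prod_range_succ] at h1
  obtain ⟨Co⟩ := hCo
  obtain ⟨ψ, hle, hcard, hψ⟩ := key _ Co
  have hidx : (ψ.range.subgroupOf (Cfsg.isometryGroup (ZMod 2) R6)).index = 2 := by
    have h1 := (ψ.range.subgroupOf (Cfsg.isometryGroup (ZMod 2) R6)).card_mul_index
    rw [Nat.card_congr (Subgroup.subgroupOfEquivOfLe hle).toEquiv, hcard,
      show Nat.card (Cfsg.isometryGroup (ZMod 2) R6) = 51840 from
        CfsgLib.Recog.FiM22Two.OrthSixMinus.card_iso] at h1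
    omega
  let p : G → Nat := fun a => if ha : a ∈ Q then enc (Co.π ⟨a, ha⟩) else 0
  have hp : ∀ (a : G) (ha : a ∈ Q), p a = enc (Co.π ⟨a, ha⟩) := fun a ha => dif_pos ha
  have hbit : ∀ u : Q, u ∈ Subgroup.center Q → (u : G) = sg z (CfsgLib.PGroups.ExtraspecialOut.bit u == 1) := by
    intro u hu
    rw [h.large.center_mem_iff] at hu
    rcases h.large.eq_or hu with e | e
    · rw [CfsgLib.PGroups.ExtraspecialOut.bit_eq_zero.2 (Subtype.ext e), e]; rfl
    · have hne : u ≠ 1 := fun e' => h.large.z_ne_one (e ▸ congrArg Subtype.val e')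
      rw [show CfsgLib.PGroups.ExtraspecialOut.bit u = 1 from if_neg hne, e]; rfl
  refine ⟨p, h.large, h.card, h.cardC, fun a ha => by rw [hp a ha]; exact (enc_facts _).1, fun n hn => ?_,
    fun a ha b hb => ?_, fun a ha ha0 => ?_, ?_, fun a ha => ?_, fun g hg => ?_⟩
  · obtain ⟨a, ha⟩ := Co.surj (vec n)
    exact ⟨a, a.2, by rw [hp _ a.2, ha, enc_vec n hn]⟩
  · rw [hp _ (Q.mul_mem ha hb), hp a ha, hp b hb, ← enc_add, ← Co.map_mul]
    rfl
  · rw [hp a ha, (enc_facts _).2.2, Co.ker, h.large.center_mem_iff] at ha0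
    exact h.large.eq_or ha0
  · rw [hp z h.large.z_mem, (enc_facts _).2.2, Co.ker, h.large.center_mem_iff]
    exact Subgroup.mem_zpowers z
  · rw [hp a ha]
    have e := hbit (⟨a, ha⟩ * ⟨a, ha⟩) (CfsgLib.PGroups.ExtraspecialOut.mul_self_mem hE _)
    rw [show a * a = ((⟨a, ha⟩ * ⟨a, ha⟩ : Q) : G) from rfl, e, ← Co.sq]
    congr 1
    rw [Bool.eq_iff_iff, beq_iff_eq, (enc_facts _).2.1]
  · obtain ⟨h3, hv⟩ := matOf_ok g hg
    let U : Matrix.GeneralLinearGroup Ix (ZMod 2) :=
      ⟨matOf g, matOf g * matOf g, by rw [← mul_assoc]; exact h3, h3⟩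
    have hU : U ∈ Cfsg.isometryGroup (ZMod 2) R6 := fun u _ => (hv u).2
    have hUU : (⟨U, hU⟩ : Cfsg.isometryGroup (ZMod 2) R6) =
        (⟨U, hU⟩ * ⟨U, hU⟩) * (⟨U, hU⟩ * ⟨U, hU⟩) := by
      apply Subtype.ext
      apply Units.ext
      show matOf g = matOf g * matOf g * (matOf g * matOf g)
      rw [← mul_assoc, h3, one_mul]
    have hm := Subgroup.mul_self_mem_of_index_two hidx (⟨U, hU⟩ * ⟨U, hU⟩)
    rw [← hUU, Subgroup.mem_subgroupOf] at hm
    obtain ⟨c, hc⟩ := hm
    refine ⟨c, hcz c, fun a ha => ?_⟩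
    rw [hp _ (h.large.conj_mem (hcz c) ha), hp a ha, ← (hv _).1]
    congr 1
    have e := hψ c ⟨a, ha⟩
    rw [show (ψ c : Matrix Ix Ix (ZMod 2)) = matOf g from congrArg Units.val hc] at e
    rw [e]
    rfl

end CfsgLib.LocalEvenB.SuzType
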