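import Mathlib.Data.List.Basic

/-!
Elements of the isometry group of the six-dimensional form of minus type over two elements, as words in
four generators of order three (owner: helper20).
-/

set_option autoImplicit false

namespace CfsgLib.LocalEvenB.SuzType

/-- Generators of order three. -/
def gens : List (List Nat) := [[55, 2, 62, 4, 38, 22],
  [10, 9, 15, 55, 47, 31],
  [1, 2, 4, 44, 32, 52],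
  [27, 1, 29, 8, 16, 57]]

/-- Words carrying each singular vector to the first basis vector. -/
def toOne : List (Nat × List Nat) := [
  (1, []),
  (2, [3]),
  (4, [1, 0]),
  (5, [3, 1, 1, 0]),
  (6, [1, 1, 0, 0]),
  (8, [1, 0, 0]),
  (9, [3, 1, 1]),
  (10, [1, 1]),
  (15, [0, 1]),
  (19, [1, 1, 3]),
  (23, [1, 3, 2]),
  (27, [3, 3]),
  (28, [1, 3, 2, 1]),
  (29, [1, 3, 0, 0]),
  (30, [1, 1, 2]),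
  (35, [0, 0, 2]),
  (39, [1, 3]),
  (43, [1, 3, 0]),
  (44, [1, 3, 1]),
  (45, [3, 3, 0]),
  (46, [1, 1, 2, 2]),
  (51, [1, 3, 2, 2]),
  (55, [0, 0]),
  (59, [0]),
  (60, [1, 1, 0]),
  (61, [3, 1]),
  (62, [1])]

/-- A Sylow 2-subgroup, by words. -/
def sylow : List (List Nat × List Nat) := [
  ([1, 2, 4, 8, 16, 32], []),
  ([1, 2, 8, 4, 48, 32], [2, 3, 0, 2, 3, 1, 3]),
  ([1, 2, 28, 60, 36, 12], [2, 2, 1, 0, 2, 0, 1, 1, 0]),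
  ([1, 2, 60, 28, 40, 12], [3, 2, 1, 0, 0, 3, 1, 1]),
  ([1, 6, 4, 9, 16, 32], [1, 2, 2, 0, 1, 3, 0, 0]),
  ([1, 6, 9, 4, 48, 32], [0, 0, 2, 0, 1, 0, 1, 3]),
  ([1, 6, 29, 61, 36, 13], [0, 3, 1, 2, 0, 3, 3, 0]),
  ([1, 6, 61, 29, 41, 13], [0, 1, 2, 3]),
  ([1, 10, 5, 8, 16, 32], [0, 3, 1, 0, 2, 3]),
  ([1, 10, 8, 5, 48, 32], [0, 1, 3, 3, 2, 1, 3, 2]),
  ([1, 10, 29, 61, 37, 13], [3, 2, 1, 2, 2, 1, 3, 1]),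
  ([1, 10, 61, 29, 40, 13], [3, 0, 1, 3, 2, 2, 1, 1]),
  ([1, 15, 5, 9, 16, 32], [3, 1, 1, 2, 1, 2, 3, 3, 0]),
  ([1, 15, 9, 5, 48, 32], [2, 0, 3, 2, 1, 2, 3]),
  ([1, 15, 28, 60, 37, 12], [3, 0, 2, 3, 3, 2, 2]),
  ([1, 15, 60, 28, 41, 12], [1, 3, 0, 2, 0, 2, 1, 3]),
  ([1, 19, 4, 8, 16, 33], [3, 3, 2, 1, 2, 2, 1, 3]),
  ([1, 19, 8, 4, 49, 33], [1, 2, 2, 1, 0, 1, 0]),
  ([1, 19, 28, 61, 37, 12], [2, 0, 3, 2, 0, 0]),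
  ([1, 19, 61, 28, 41, 12], [1, 2, 0, 3, 2, 3, 0]),
  ([1, 23, 4, 9, 16, 33], [0, 0, 1, 1, 2, 1, 0, 2]),
  ([1, 23, 9, 4, 49, 33], [1, 3, 2, 0, 1, 3]),
  ([1, 23, 29, 60, 37, 13], [1, 0, 2, 0, 1, 3, 1, 0]),
  ([1, 23, 60, 29, 40, 13], [0, 3, 2, 3, 2, 2, 0, 0]),
  ([1, 27, 5, 8, 16, 33], [0, 1, 1, 2, 1, 2, 0, 0]),
  ([1, 27, 8, 5, 49, 33], [2, 3, 2, 0, 2, 3, 3]),
  ([1, 27, 29, 60, 36, 13], [1, 3, 1, 1, 3, 3, 1]),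
  ([1, 27, 60, 29, 41, 13], [0, 1, 3, 0, 3, 0, 2, 3]),
  ([1, 30, 5, 9, 16, 33], [2, 0, 1, 3, 0, 2, 3]),
  ([1, 30, 9, 5, 49, 33], [2, 0, 0, 3, 3, 2, 1]),
  ([1, 30, 28, 61, 36, 12], [1, 1, 0, 3, 2, 2, 1, 0]),
  ([1, 30, 61, 28, 40, 12], [0, 2, 1, 2, 1, 3]),
  ([1, 35, 4, 8, 17, 32], [1, 2, 3, 3, 2, 3, 1, 1]),
  ([1, 35, 8, 4, 49, 32], [1, 2, 3, 1, 0, 1, 2, 0]),
  ([1, 35, 29, 61, 36, 12], [3, 1, 3, 2, 0, 1, 0, 0]),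
  ([1, 35, 61, 29, 40, 12], [3, 2, 0, 1, 3, 1, 1]),
  ([1, 39, 4, 9, 17, 32], [2, 0, 0, 1, 1, 2, 1, 0]),
  ([1, 39, 9, 4, 49, 32], [2, 3, 1, 2, 1, 3, 1]),
  ([1, 39, 28, 60, 36, 13], [1, 1, 0, 3, 1, 0, 2]),
  ([1, 39, 60, 28, 41, 13], [3, 1, 0, 0, 2, 3, 1, 1]),
  ([1, 43, 5, 8, 17, 32], [0, 2, 1, 1, 2, 1, 0, 0]),
  ([1, 43, 8, 5, 49, 32], [2, 0, 2, 1, 3, 2, 3]),
  ([1, 43, 28, 60, 37, 13], [1, 0, 2, 2, 1, 0, 0]),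
  ([1, 43, 60, 28, 40, 13], [1, 0, 2, 3, 2, 1, 3, 0]),
  ([1, 46, 5, 9, 17, 32], [0, 1, 3, 0, 2, 3, 2]),
  ([1, 46, 9, 5, 49, 32], [1, 2, 1, 3, 2, 0, 2]),
  ([1, 46, 29, 61, 37, 12], [2, 2, 3, 1, 0, 3, 1, 1]),
  ([1, 46, 61, 29, 41, 12], [3, 2, 3, 0, 2, 3, 1]),
  ([1, 51, 4, 8, 17, 33], [1, 3, 3, 2, 3, 2, 1, 1]),
  ([1, 51, 8, 4, 48, 33], [3, 1, 2, 3, 0, 0, 1, 1, 0]),
  ([1, 51, 29, 60, 37, 12], [1, 0, 1, 2, 0, 0]),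
  ([1, 51, 60, 29, 41, 12], [1, 0, 3, 1, 2, 3, 0]),
  ([1, 55, 4, 9, 17, 33], [3, 3, 1, 2, 1, 2, 2, 3]),
  ([1, 55, 9, 4, 48, 33], [0, 3, 2, 2, 0, 0, 2]),
  ([1, 55, 28, 61, 37, 13], [3, 2, 2, 0, 2, 0, 3, 3]),
  ([1, 55, 61, 28, 40, 13], [0, 3, 1, 0, 1, 1, 0, 0]),
  ([1, 59, 5, 8, 17, 33], [0, 2, 0, 1, 2, 3, 0, 1]),
  ([1, 59, 8, 5, 48, 33], [0, 1, 0, 1, 1, 3, 0, 0]),
  ([1, 59, 28, 61, 36, 13], [0, 0, 2, 3, 2, 0, 2, 0]),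
  ([1, 59, 61, 28, 41, 13], [3, 2, 3, 0, 3, 2, 1, 2]),
  ([1, 62, 5, 9, 17, 33], [3, 1, 0, 3, 1, 0, 3, 1, 0]),
  ([1, 62, 9, 5, 48, 33], [1, 1, 2, 2, 3, 0, 2, 2]),
  ([1, 62, 29, 60, 36, 12], [1, 0, 0, 1, 2, 3, 0, 0, 1]),
  ([1, 62, 60, 29, 40, 12], [3, 3, 2, 2, 1, 1, 0, 0])]

/-- Conjugating words for its involutions. -/
def invol : List (List Nat × List Nat × Bool) := [
  ([1, 2, 8, 4, 48, 32], [1, 2, 3, 1, 0], true),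
  ([1, 2, 28, 60, 36, 12], [1, 0, 0, 2, 2], true),
  ([1, 2, 60, 28, 40, 12], [1, 0, 0, 2, 2, 0], true),
  ([1, 6, 4, 9, 16, 32], [], false),
  ([1, 10, 5, 8, 16, 32], [1, 0, 0], false),
  ([1, 15, 5, 9, 16, 32], [0, 3, 2, 0, 0], true),
  ([1, 15, 9, 5, 48, 32], [2, 0, 0, 3], true),
  ([1, 19, 4, 8, 16, 33], [], true),
  ([1, 23, 4, 9, 16, 33], [1, 0, 1, 0, 0], true),
  ([1, 23, 60, 29, 40, 13], [3, 2, 3, 0], true),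
  ([1, 27, 5, 8, 16, 33], [2, 0, 1, 2, 3], true),
  ([1, 27, 29, 60, 36, 13], [0, 0, 3, 1], true),
  ([1, 30, 5, 9, 16, 33], [0, 2, 0, 0], false),
  ([1, 35, 4, 8, 17, 32], [2, 2], true),
  ([1, 35, 8, 4, 49, 32], [0, 2, 1, 2, 0], true),
  ([1, 39, 4, 9, 17, 32], [0, 3, 0, 0], true),
  ([1, 43, 5, 8, 17, 32], [0, 1, 2, 3], true),
  ([1, 46, 5, 9, 17, 32], [3, 2, 3, 0], false),
  ([1, 46, 9, 5, 49, 32], [0, 0, 1, 0, 3, 1], true),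
  ([1, 46, 29, 61, 37, 12], [1, 3, 1, 3], true),
  ([1, 46, 61, 29, 41, 12], [1, 3, 1, 0], true),
  ([1, 51, 4, 8, 17, 33], [3, 0, 3, 3], true),
  ([1, 55, 4, 9, 17, 33], [2], true),
  ([1, 55, 28, 61, 37, 13], [1, 3, 2, 0, 0], true),
  ([1, 59, 5, 8, 17, 33], [0, 2, 0, 0], true),
  ([1, 59, 61, 28, 41, 13], [2, 0, 1, 2, 0], true),
  ([1, 62, 5, 9, 17, 33], [0, 0, 1, 1], false)]

/-- Elements fixing a singular vector of the section. -/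
def fixers : List (Nat × List Nat) := [
  (4, [2]),
  (4, [0, 3, 0, 0]),
  (8, [0, 2, 0, 0]),
  (8, [1, 2, 1, 1]),
  (28, [3, 3, 1, 3]),
  (28, [3, 2, 3, 3]),
  (44, [0, 3, 0, 0]),
  (44, [0, 1, 2, 3]),
  (60, [2]),
  (60, [0, 2, 0, 0])]

/-- Elements fusing the outer cosets. -/
def fusers : List (Nat × List Nat) := [
  (4, [1, 2, 1, 1, 2]),
  (8, [3, 1, 3, 1, 1])]

end CfsgLib.LocalEvenB.SuzType
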