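import Cfsg.Agent.Lib.LocalEvenB.SuzType.Model

/-!
Finite facts about the isometry group of the six-dimensional form of minus type over two elements
(owner: helper20).
-/

set_option autoImplicit false
set_option maxRecDepth 100000
set_option Elab.async false

namespace CfsgLib.LocalEvenB.SuzType

theorem gens_ok : ∀ g ∈ gens, isoB g = true ∧ comp g (comp g g) = one := by decide +kernel

theorem toOne_ok : (List.range 64).all (fun n => n == 0 || qb n ||
    toOne.any fun p => p.1 == n && app (wmap p.2) n == 1) = true := by decide +kernel

theorem sylow_words : sylow.all (fun p => p.1 == wmap p.2) = true := by decide +kernel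

theorem sylow_nodup : (sylow.map Prod.fst).Nodup := by decide +kernel

theorem sylow_card : sylow.length = 64 := by decide +kernel

theorem sylow_closed : sylow.all (fun p => sylow.all fun r =>
    (sylow.map Prod.fst).contains (comp p.1 r.1)) = true := by decide +kernel

theorem sylow_invol : sylow.all (fun p => p.1 == one || !(comp p.1 p.1 == one) ||
    invol.any fun r => r.1 == p.1) = true := by decide +kernel

theorem invol_ok : invol.all (fun r =>
    comp (wmap r.2.1) r.1 == comp (rho (bif r.2.2 then 16 else 4)) (wmap r.2.1)) = true := by decide +kernel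

/-- The section at the first basis vector. -/
def sect : List Nat := (List.range 16).map (4 * ·)

/-- A candidate element fixing the first vector and trivial on the section. -/
def siegelCand (n : Nat) (k2 k3 k4 k5 : Bool) : List Nat :=
  [1, n, 4 ^^^ (bif k2 then 1 else 0), 8 ^^^ (bif k3 then 1 else 0), 16 ^^^ (bif k4 then 1 else 0),
    32 ^^^ (bif k5 then 1 else 0)]

theorem siegel_ok : ∀ k2 k3 k4 k5 : Bool, (List.range 64).all (fun n => !isoB (siegelCand n k2 k3 k4 k5) ||
    siegelCand n k2 k3 k4 k5 == rho ((n ^^^ 2) &&& 60)) = true := by decide +kernel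

theorem rho_ok : sect.all (fun v => isoB (rho v) && (app (rho v) 1 == 1)) = true := by decide +kernel

theorem rho_inj : sect.all (fun v => (app (rho v) 2 ^^^ 2) &&& 60 == v) = true := by decide +kernel

theorem rho_comp : sect.all (fun v => sect.all fun w => comp (rho v) (rho w) == rho (v ^^^ w)) = true := by
  decide +kernel

theorem rho_move : sect.all (fun v => (List.range 64).all fun a =>
    bb a 1 || app (rho v) a == a ^^^ (bif bb v a then 1 else 0)) = true := by decide +kernel

theorem rho_partner : sect.all (fun v =>
    app (rho v) 2 ^^^ 2 == v ^^^ (bif qb v then 1 else 0)) = true := by decide +kernel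

theorem fixers_ok : fixers.all (fun p => app (wmap p.2) 1 == 1 &&
    comp (wmap p.2) (rho p.1) == comp (rho p.1) (wmap p.2)) = true := by decide +kernel

/-- A linear functional on the section left invariant by the fixers of a singular `v` is `0` or the pairing
with `v`. -/
theorem fixers_inv : ∀ v ∈ [4, 8, 28, 44, 60], sect.all (fun r =>
    !(fixers.all fun p => !(p.1 == v) || [4, 8, 16, 32].all fun w =>
      bb r (app (wmap p.2) w &&& 60) == bb r w) || r == 0 || r == v) = true := by decide +kernel

theorem functional_ok : ∀ b2 b3 b4 b5 : Bool, sect.any (fun r =>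
    bb r 4 == b2 && bb r 8 == b3 && bb r 16 == b4 && bb r 32 == b5) = true := by decide +kernel

theorem combination_ok : ∀ c1 c2 c3 c4 c5 : Bool,
    ([4, 8, 16, 32].all fun w => ((c1 && bb 4 w) ^^ ((c2 && bb 8 w) ^^ ((c3 && bb 28 w) ^^ (c4 && bb 44 w)))) ==
      (c5 && bb 60 w)) = true → c1 = c5 ∧ c2 = c5 ∧ c3 = c5 ∧ c4 = c5 := by decide +kernel

theorem sect_basis : sect.all (fun v => [false, true].any fun a => [false, true].any fun b =>
    [false, true].any fun c => [false, true].any fun d => v == (bif a then 4 else 0) ^^^
      ((bif b then 8 else 0) ^^^ ((bif c then 28 else 0) ^^^ (bif d then 44 else 0)))) = true := by decide +kernel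

theorem inner_fix : (List.range 64).all (fun a => !(fixB (rho 4) a) || !(qb a == false) ||
    imB (rho 4) a) = true := by decide +kernel

theorem inner_fix_form : (List.range 64).all (fun a => !(fixB (rho 4) a) || !(bb a 4)) = true := by decide +kernel

theorem inner_fix_perp : (List.range 64).all (fun a => !(fixB (rho 4) a) || !(bb a 1)) = true := by decide +kernel

theorem outer_fix_perp : (List.range 64).all (fun a => !(fixB (rho 16) a) || (!(bb a 1) && !(bb a 16))) = true := by
  decide +kernel

theorem outer_fix : (List.range 64).all (fun a => !(fixB (rho 16) a) || !(qb a == bb 32 a) ||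
    (([] :: fusers.map Prod.snd).any fun w =>
      comp (wmap w) (rho 16) == comp (rho 16) (wmap w) && (List.range 64).all fun y =>
        !(fixB (rho 16) y) || (bb 32 (app (wmap w) y) == bb (32 ^^^ a) y))) = true := by decide +kernel

theorem outer_im : (List.range 64).all (fun a => !(fixB (rho 16) a) || !(qb a == bb 32 a) ||
    !((List.range 64).all fun y => !(fixB (rho 16) y) || !(bb a y)) || imB (rho 16) a) = true := by decide +kernel

theorem outer_witness : bb 16 32 = true ∧ qb 32 = true ∧ qb 16 = true ∧ qb 4 = false ∧
    fixB (rho 16) 16 = true ∧ bb 32 16 = true := by decide +kernel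

/-- Filtered images in a map fixing `1, 4, 8`. -/
def boundCand : List (List Nat) :=
  (((List.range 64).filter fun f => !qb f && bb f 1 && !bb f 4 && !bb f 8)).flatMap fun f =>
    (((List.range 64).filter fun v => qb v && !bb v 1 && !bb v 4 && !bb v 8)).flatMap fun v =>
      (((List.range 64).filter fun y => qb y && !bb y 1 && !bb y 4 && !bb y 8)).map fun y => [1, f, 4, 8, v, y]

theorem bound_ok : (boundCand.filter fun A => comp A (rho 16) == comp (rho 16) A &&
    (bb (A.getD 4 0) (A.getD 5 0) && (!bb (A.getD 1 0) (A.getD 4 0) && !bb (A.getD 1 0) (A.getD 5 0)))).length ≤ 8 := by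
  decide +kernel

theorem fixers_move : (List.range 64).all (fun n => n == 0 || n == 1 || qb n || bb n 1 ||
    fixers.any fun p => bb n (app (wmap p.2) n)) = true := by decide +kernel

theorem sect_nondeg : sect.all (fun v => v == 0 || sect.any fun m => bb v m) = true := by decide +kernel

theorem sect_lt : ∀ v ∈ sect, v < 64 ∧ bb v 1 = false ∧ v &&& 60 = v := by decide +kernel

theorem sect_std : ∀ v ∈ sect, v = (bif v.testBit 2 then 4 else 0) ^^^ ((bif v.testBit 3 then 8 else 0) ^^^
    ((bif v.testBit 4 then 16 else 0) ^^^ (bif v.testBit 5 then 32 else 0))) := by decide +kernel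

theorem reduce_mem : ∀ n < 64, n &&& 60 ∈ sect := by decide +kernel

theorem reduce_perp : ∀ n < 64, bb n 1 = false → n = n &&& 60 ∨ n = (n &&& 60) ^^^ 1 := by decide +kernel

theorem bb_self : ∀ n < 64, bb n n = false := by decide +kernel

end CfsgLib.LocalEvenB.SuzType
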