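import Cfsg.Agent.Lib.LocalEvenB.SuzType.Frame

/-!
The central part of the commutators of the two extraspecial groups is the polar form of the section, so
squaring in `P` is given by the same form (owner: helper20).
-/

set_option autoImplicit false
set_option linter.unusedSectionVars false
set_option linter.unusedVariables false
set_option quotPrecheck false

namespace CfsgLib.LocalEvenB.SuzType

open CfsgLib.ThreeTrans

variable {G : Type*} [Group G] [Finite G] {z : G} {Q : Subgroup G} {p : G → Nat} {k : G}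

open scoped Classical in
/-- The `z`-part of a commutator. -/
noncomputable def zc (z k : G) (s a : G) : Bool :=
  decide (∃ j, s * a * s⁻¹ * a⁻¹ = z * sg (k * z * k⁻¹) j)

/-- An element of `P` inducing `rho v`. -/
noncomputable def sOf (z : G) (Q : Subgroup G) (p : G → Nat) (k : G) (v : Nat) : G :=
  Classical.epsilon fun s => s ∈ Q.map (MulAut.conj k).toMonoidHom ∧ Commute s z ∧ Acts z Q p s (rho v)

/-- A vector representative. -/
noncomputable def aOf (Q : Subgroup G) (p : G → Nat) (n : Nat) : G :=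
  Classical.epsilon fun a => a ∈ Q ∧ p a = n

/-- The pairing. -/
noncomputable def pairing (z : G) (Q : Subgroup G) (p : G → Nat) (k : G) (v n : Nat) : Bool :=
  zc z k (sOf z Q p k v) (aOf Q p n)

namespace Frame

variable (F : Frame z Q p k)
include F

local notation "X" => k * z * k⁻¹
local notation "P" => Q.map (MulAut.conj k).toMonoidHom
local notation "L" => pairing z Q p k

theorem rho_shift {v n : Nat} (hv : v ∈ sect) (hn : n < 64) (hn1 : bb n 1 = false) :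
    app (rho v) n ^^^ n = bif bb v n then 1 else 0 := by
  have h := List.all_eq_true.1 (List.all_eq_true.1 rho_move v hv) n (List.mem_range.2 hn)
  simp only [hn1, Bool.false_or, beq_iff_eq] at h
  rw [h, Nat.xor_comm n, Nat.xor_assoc, Nat.xor_self, Nat.xor_zero]

theorem comm_form {s a : G} {v : Nat} (hv : v ∈ sect) (hs : s ∈ P) (hsz : Commute s z)
    (hsA : Acts z Q p s (rho v)) (ha : a ∈ Q) (ha1 : bb (p a) 1 = false) :
    s * a * s⁻¹ * a⁻¹ = sg z (zc z k s a) * sg X (bb v (p a)) := by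
  have hm := F.comm_mem hs hsz ha ((F.comm_x ha).2 ha1)
  obtain ⟨i, j, e⟩ := F.inter hm.1 hm.2
  have hp : p (s * a * s⁻¹ * a⁻¹) = app (rho v) (p a) ^^^ p a := by
    rw [F.sys.map_mul _ (F.sys.large.conj_mem hsz ha) _ (Q.inv_mem ha), F.sys.p_inv ha, hsA.2 a ha]
  rw [e, F.p_pair, F.rho_shift hv (F.sys.lt a ha) ha1] at hp
  have hj : j = bb v (p a) := by
    cases j <;> cases hb : bb v (p a) <;> simp_all
  have hi : zc z k s a = i := by
    classical
    unfold zc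
    cases i
    · rw [decide_eq_false_iff_not]
      rintro ⟨j', e'⟩
      rw [e] at e'
      have := F.pair_inj (i := false) (i' := true) e'
      exact absurd this.1 Bool.false_ne_true
    · rw [decide_eq_true_iff]
      exact ⟨j, e⟩
  rw [e, hi, hj]

theorem zc_eq {s a : G} {v : Nat} {i j : Bool} (hv : v ∈ sect) (hs : s ∈ P) (hsz : Commute s z)
    (hsA : Acts z Q p s (rho v)) (ha : a ∈ Q) (ha1 : bb (p a) 1 = false)
    (e : s * a * s⁻¹ * a⁻¹ = sg z i * sg X j) : zc z k s a = i :=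
  (F.pair_inj ((F.comm_form hv hs hsz hsA ha ha1).symm.trans e)).1

theorem perp_xor {m n : Nat} (hm : bb m 1 = false) (hn : bb n 1 = false) : bb (m ^^^ n) 1 = false := by
  rw [bb_xor_left, hm, hn]; rfl

theorem zc_mul_right {s a b : G} {v : Nat} (hv : v ∈ sect) (hs : s ∈ P) (hsz : Commute s z)
    (hsA : Acts z Q p s (rho v)) (ha : a ∈ Q) (ha1 : bb (p a) 1 = false) (hb : b ∈ Q) (hb1 : bb (p b) 1 = false) :
    zc z k s (a * b) = (zc z k s a ^^ zc z k s b) := by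
  refine F.zc_eq hv hs hsz hsA (Q.mul_mem ha hb) (by rw [F.sys.map_mul a ha b hb]; exact F.perp_xor ha1 hb1)
    (j := bb v (p a) ^^ bb v (p b)) ?_
  rw [← F.pair_mul, ← F.comm_form hv hs hsz hsA ha ha1, ← F.comm_form hv hs hsz hsA hb hb1]
  have hc : Commute a (s * b * s⁻¹ * b⁻¹) := by
    rw [F.comm_form hv hs hsz hsA hb hb1]
    exact F.pair_comm (F.sys.large.commute_z ha) ((F.comm_x ha).2 ha1) _ _
  calc s * (a * b) * s⁻¹ * (a * b)⁻¹ = s * a * s⁻¹ * (s * b * s⁻¹ * b⁻¹) * a⁻¹ := by group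
    _ = s * a * s⁻¹ * a⁻¹ * (a * (s * b * s⁻¹ * b⁻¹) * a⁻¹) := by group
    _ = _ := by rw [hc.eq, mul_inv_cancel_right]

theorem zc_mul_left {s t a : G} {v w : Nat} (hv : v ∈ sect) (hw : w ∈ sect) (hs : s ∈ P) (hsz : Commute s z)
    (hsA : Acts z Q p s (rho v)) (ht : t ∈ P) (htz : Commute t z) (htA : Acts z Q p t (rho w))
    (hvw : v ^^^ w ∈ sect) (ha : a ∈ Q) (ha1 : bb (p a) 1 = false) :
    zc z k (s * t) a = (zc z k t a ^^ zc z k s a) := by
  refine F.zc_eq hvw (Subgroup.mul_mem _ hs ht) (hsz.mul_left htz) (F.rho_mul hv hw hsA htA) ha ha1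
    (j := bb w (p a) ^^ bb v (p a)) ?_
  rw [← F.pair_mul, ← F.comm_form hv hs hsz hsA ha ha1, ← F.comm_form hw ht htz htA ha ha1]
  have hc : Commute s (t * a * t⁻¹ * a⁻¹) := by
    rw [F.comm_form hw ht htz htA ha ha1]
    exact F.pair_comm hsz (F.sys'.large.commute_z hs) _ _
  calc s * t * a * (s * t)⁻¹ * a⁻¹ = s * (t * a * t⁻¹ * a⁻¹) * s⁻¹ * (s * a * s⁻¹ * a⁻¹) := by group
    _ = _ := by rw [hc.eq, mul_inv_cancel_right]

theorem zc_of_inter {s e a : G} (hs : s ∈ P) (hsz : Commute s z) (ha : a ∈ Q) (ha1 : bb (p a) 1 = false)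
    {i j : Bool} (he : e = sg z i * sg X j) : zc z k (s * e) a = zc z k s a := by
  have h1 : Commute a e := by rw [he]; exact F.pair_comm (F.sys.large.commute_z ha) ((F.comm_x ha).2 ha1) _ _
  unfold zc
  have : s * e * a * (s * e)⁻¹ * a⁻¹ = s * a * s⁻¹ * a⁻¹ := by
    rw [mul_assoc s e a, ← h1.eq]
    group
  rw [this]

theorem zc_of_p {s a : G} (hs : s ∈ P) (hsz : Commute s z) (ha : a ∈ Q) (i : Bool) :
    zc z k s (a * sg z i) = zc z k s a := by
  have h1 : Commute s (sg z i) := F.sys.sg_comm hsz i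
  unfold zc
  have : s * (a * sg z i) * s⁻¹ * (a * sg z i)⁻¹ = s * a * s⁻¹ * a⁻¹ := by
    rw [show s * (a * sg z i) * s⁻¹ = s * a * (sg z i * s⁻¹) by group, ← h1.inv_left.eq]
    group
  rw [this]

theorem sOf_spec {v : Nat} (hv : v ∈ sect) :
    sOf z Q p k v ∈ P ∧ Commute (sOf z Q p k v) z ∧ Acts z Q p (sOf z Q p k v) (rho v) := by
  obtain ⟨s, hs⟩ := F.exists_s hv
  exact Classical.epsilon_spec (p := fun s => s ∈ P ∧ Commute s z ∧ Acts z Q p s (rho v)) ⟨s, hs⟩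

theorem aOf_spec {n : Nat} (hn : n < 64) : aOf Q p n ∈ Q ∧ p (aOf Q p n) = n := by
  obtain ⟨a, ha⟩ := F.sys.surj n hn
  exact Classical.epsilon_spec (p := fun a => a ∈ Q ∧ p a = n) ⟨a, ha⟩

theorem zc_pairing {s a : G} {v : Nat} (hv : v ∈ sect) (hs : s ∈ P) (hsz : Commute s z)
    (hsA : Acts z Q p s (rho v)) (ha : a ∈ Q) (ha1 : bb (p a) 1 = false) :
    zc z k s a = L v (p a) := by
  obtain ⟨h1, h2, h3⟩ := F.sOf_spec hv
  obtain ⟨h4, h5⟩ := F.aOf_spec (F.sys.lt a ha)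
  have hd : (sOf z Q p k v)⁻¹ * s ∈ Q := F.sys.inv_mul_mem h3 hsA
  obtain ⟨i, j, he⟩ := F.inter hd (Subgroup.mul_mem _ (Subgroup.inv_mem _ h1) hs)
  obtain ⟨i', he'⟩ := F.sys.eq_of_p h4 ha h5
  have e1 : s = sOf z Q p k v * (sg z i * sg X j) := by rw [← he]; group
  rw [e1, F.zc_of_inter h1 h2 ha ha1 rfl]
  conv_lhs => rw [he']
  rw [F.zc_of_p h1 h2 h4]
  rfl

theorem L_xor {v m n : Nat} (hv : v ∈ sect) (hm : m < 64) (hn : n < 64) (hm1 : bb m 1 = false)
    (hn1 : bb n 1 = false) : L v (m ^^^ n) = (L v m ^^ L v n) := by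
  obtain ⟨a, ha, rfl⟩ := F.sys.surj m hm
  obtain ⟨b, hb, rfl⟩ := F.sys.surj n hn
  obtain ⟨h1, h2, h3⟩ := F.sOf_spec hv
  have hab : bb (p (a * b)) 1 = false := by rw [F.sys.map_mul a ha b hb]; exact F.perp_xor hm1 hn1
  rw [← F.zc_pairing hv h1 h2 h3 ha hm1, ← F.zc_pairing hv h1 h2 h3 hb hn1, ← F.sys.map_mul a ha b hb,
    ← F.zc_pairing hv h1 h2 h3 (Q.mul_mem ha hb) hab, F.zc_mul_right hv h1 h2 h3 ha hm1 hb hn1]

theorem L_left {v w n : Nat} (hv : v ∈ sect) (hw : w ∈ sect) (hvw : v ^^^ w ∈ sect) (hn : n < 64)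
    (hn1 : bb n 1 = false) : L (v ^^^ w) n = (L v n ^^ L w n) := by
  obtain ⟨a, ha, rfl⟩ := F.sys.surj n hn
  obtain ⟨h1, h2, h3⟩ := F.sOf_spec hv
  obtain ⟨h4, h5, h6⟩ := F.sOf_spec hw
  rw [← F.zc_pairing hvw (Subgroup.mul_mem _ h1 h4) (h2.mul_left h5) (F.rho_mul hv hw h3 h6) ha hn1,
    F.zc_mul_left hv hw h1 h2 h3 h4 h5 h6 hvw ha hn1, ← F.zc_pairing hv h1 h2 h3 ha hn1,
    ← F.zc_pairing hw h4 h5 h6 ha hn1, Bool.xor_comm]

theorem L_zero {v : Nat} (hv : v ∈ sect) : L v 0 = false := by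
  have := F.L_xor hv (m := 0) (n := 0) (by norm_num) (by norm_num) (by decide +kernel) (by decide +kernel)
  rw [Nat.xor_self, Bool.xor_self] at this
  exact this

theorem L_one {v : Nat} (hv : v ∈ sect) : L v 1 = false := by
  obtain ⟨h1, h2, h3⟩ := F.sOf_spec hv
  rw [← F.px, ← F.zc_pairing hv h1 h2 h3 F.memQ (by rw [F.px]; decide +kernel)]
  refine F.zc_eq hv h1 h2 h3 F.memQ (by rw [F.px]; decide +kernel) (j := false) ?_
  rw [(F.sys'.large.commute_z h1).eq, mul_inv_cancel_right, mul_inv_cancel]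
  exact (one_mul (1 : G)).symm

theorem L_reduce {v n : Nat} (hv : v ∈ sect) (hn : n < 64) (hn1 : bb n 1 = false) : L v (n &&& 60) = L v n := by
  have hs := sect_lt _ (reduce_mem n hn)
  rcases reduce_perp n hn hn1 with e | e
  · rw [← e]
  · conv_rhs => rw [e]
    rw [F.L_xor hv hs.1 (by norm_num) hs.2.1 (by decide +kernel), F.L_one hv, Bool.xor_false]

/-- Additive functions on the section equal on the basis are equal. -/
theorem lin_ext {f g : Nat → Bool}
    (hf : ∀ a < 64, ∀ b < 64, bb a 1 = false → bb b 1 = false → f (a ^^^ b) = (f a ^^ f b))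
    (hg : ∀ a < 64, ∀ b < 64, bb a 1 = false → bb b 1 = false → g (a ^^^ b) = (g a ^^ g b))
    (h4 : f 4 = g 4) (h8 : f 8 = g 8) (h16 : f 16 = g 16) (h32 : f 32 = g 32)
    {n : Nat} (hn : n ∈ sect) : f n = g n := by
  have z0 : ∀ {f : Nat → Bool}, (∀ a < 64, ∀ b < 64, bb a 1 = false → bb b 1 = false →
      f (a ^^^ b) = (f a ^^ f b)) → f 0 = false := fun hf => by
    have := hf 0 (by norm_num) 0 (by norm_num) (by decide +kernel) (by decide +kernel)
    rw [Nat.xor_self, Bool.xor_self] at this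
    exact this
  have hall : ∀ a b c d : Bool, f ((bif a then 4 else 0) ^^^ ((bif b then 8 else 0) ^^^
      ((bif c then 16 else 0) ^^^ (bif d then 32 else 0)))) = g ((bif a then 4 else 0) ^^^ ((bif b then 8 else 0) ^^^
      ((bif c then 16 else 0) ^^^ (bif d then 32 else 0)))) := by
    intro a b c d
    have hb : ∀ a b c d : Bool, ((bif c then 16 else 0) ^^^ (bif d then 32 else 0) < 64 ∧
        bb ((bif c then 16 else 0) ^^^ (bif d then 32 else 0)) 1 = false) ∧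
      ((bif b then 8 else 0) ^^^ ((bif c then 16 else 0) ^^^ (bif d then 32 else 0)) < 64 ∧
        bb ((bif b then 8 else 0) ^^^ ((bif c then 16 else 0) ^^^ (bif d then 32 else 0))) 1 = false) ∧
      ((bif a then 4 else 0) < 64 ∧ bb (bif a then 4 else 0) 1 = false) ∧
      ((bif b then 8 else 0) < 64 ∧ bb (bif b then 8 else 0) 1 = false) ∧
      ((bif c then 16 else 0) < 64 ∧ bb (bif c then 16 else 0) 1 = false) ∧
      ((bif d then 32 else 0) < 64 ∧ bb (bif d then 32 else 0) 1 = false) := by decide +kernel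
    obtain ⟨hcd, hbcd, ha, hb', hc, hd⟩ := hb a b c d
    rw [hf _ ha.1 _ hbcd.1 ha.2 hbcd.2, hf _ hb'.1 _ hcd.1 hb'.2 hcd.2, hf _ hc.1 _ hd.1 hc.2 hd.2,
      hg _ ha.1 _ hbcd.1 ha.2 hbcd.2, hg _ hb'.1 _ hcd.1 hb'.2 hcd.2, hg _ hc.1 _ hd.1 hc.2 hd.2]
    cases a <;> cases b <;> cases c <;> cases d <;> simp [z0 hf, z0 hg, h4, h8, h16, h32]
  rw [sect_std n hn]
  exact hall _ _ _ _

theorem bb_lin (r : Nat) : ∀ a < 64, ∀ b < 64, bb a 1 = false → bb b 1 = false →
    bb r (a ^^^ b) = (bb r a ^^ bb r b) := fun a _ b _ _ _ => by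
  rw [bb_comm r, bb_xor_left, bb_comm a, bb_comm b]

/-- An element of `Q` corrects an element fixing the first vector to one fixing `x`. -/
theorem exists_fix {c : G} {W : List Nat} (hc : Acts z Q p c W) (hW : app W 1 = 1) (hl : W.length = 6) :
    ∃ d, Acts z Q p d W ∧ Commute d X := by
  obtain ⟨i, e⟩ := F.sys.eq_of_p (F.sys.large.conj_mem hc.1 F.memQ) F.memQ
    (by rw [hc.2 _ F.memQ, F.px, hW])
  cases i
  · refine ⟨c, hc, ?_⟩
    rw [show sg z false = 1 from rfl, mul_one] at e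
    exact mul_inv_eq_iff_eq_mul.1 e.symm
  · obtain ⟨q, hq1, hq2⟩ := F.sys.surj 2 (by norm_num)
    refine ⟨q * c, ⟨(F.sys.large.commute_z hq1).mul_left hc.1, fun a ha => ?_⟩, mul_inv_eq_iff_eq_mul.1 ?_⟩
    · rw [show q * c * a * (q * c)⁻¹ = q * (c * a * c⁻¹) * q⁻¹ by group,
        F.sys.p_conj_q (F.sys.large.conj_mem hc.1 ha) hq1, hc.2 a ha]
    · rw [show q * c * X * (q * c)⁻¹ = q * (c * X * c⁻¹) * q⁻¹ by group,
        F.sys.conj_eq (F.sys.large.conj_mem hc.1 F.memQ) hq1, hq2, hc.2 _ F.memQ, F.px, hW,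
        show bb 2 1 = true by decide +kernel]
      exact e.symm

theorem L_invariant {v : Nat} {W : List Nat} {c : G} (hv : v ∈ sect) (hl : W.length = 6)
    (hc : Acts z Q p c W) (hW : app W 1 = 1) (hcomm : comp W (rho v) = comp (rho v) W)
    {n : Nat} (hn : n < 64) (hn1 : bb n 1 = false) : L v (app W n &&& 60) = L v n := by
  obtain ⟨d, hd, hdx⟩ := F.exists_fix hc hW hl
  obtain ⟨h1, h2, h3⟩ := F.sOf_spec hv
  obtain ⟨a, ha, rfl⟩ := F.sys.surj n hn
  set s := sOf z Q p k v with hs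
  have hs' : d * s * d⁻¹ ∈ P := F.sys'.large.conj_mem hdx h1
  have hsz' : Commute (d * s * d⁻¹) z := (hd.1.mul_left h2).mul_left hd.1.inv_left
  have hsA' := F.sys.acts_conj hl (F.rho_len v) (F.rho_len v) hd h3 hcomm
  have ha' : d * a * d⁻¹ ∈ Q := F.sys.large.conj_mem hd.1 ha
  have hax' : Commute (d * a * d⁻¹) X := (hdx.mul_left ((F.comm_x ha).2 hn1)).mul_left hdx.inv_left
  have hp' := (F.comm_x ha').1 hax'
  have e := F.comm_form hv h1 h2 h3 ha hn1
  have e2 : d * s * d⁻¹ * (d * a * d⁻¹) * (d * s * d⁻¹)⁻¹ * (d * a * d⁻¹)⁻¹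
      = sg z (zc z k s a) * sg X (bb v (p a)) := by
    rw [show d * s * d⁻¹ * (d * a * d⁻¹) * (d * s * d⁻¹)⁻¹ * (d * a * d⁻¹)⁻¹
        = d * (s * a * s⁻¹ * a⁻¹) * d⁻¹ by group, e, (F.pair_comm hd.1 hdx _ _).eq, mul_inv_cancel_right]
  have := F.zc_eq hv hs' hsz' hsA' ha' hp' e2
  rw [F.zc_pairing hv hs' hsz' hsA' ha' hp', F.zc_pairing hv h1 h2 h3 ha hn1, hd.2 a ha] at this
  rw [F.L_reduce hv (hd.2 a ha ▸ F.sys.lt _ ha') (hd.2 a ha ▸ hp'), this]

theorem L_singular {v : Nat} (hv : v ∈ [4, 8, 28, 44, 60]) : ∃ c : Bool, ∀ w ∈ sect, L v w = (c && bb v w) := by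
  have hvs : v ∈ sect := (show ∀ v ∈ [4, 8, 28, 44, 60], v ∈ sect by decide +kernel) v hv
  have h := fun b2 b3 b4 b5 => List.any_eq_true.1 (functional_ok b2 b3 b4 b5)
  obtain ⟨r, hr, hr'⟩ := h (L v 4) (L v 8) (L v 16) (L v 32)
  simp only [Bool.and_eq_true, beq_iff_eq] at hr'
  obtain ⟨⟨⟨r4, r8⟩, r16⟩, r32⟩ := hr'
  have hL : ∀ a < 64, ∀ b < 64, bb a 1 = false → bb b 1 = false → L v (a ^^^ b) = (L v a ^^ L v b) :=
    fun a ha b hb ha1 hb1 => F.L_xor hvs ha hb ha1 hb1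
  have heq : ∀ w ∈ sect, L v w = bb r w := fun w hw => F.lin_ext hL (F.bb_lin r) r4.symm r8.symm r16.symm r32.symm hw
  have hinv := List.all_eq_true.1 (fixers_inv v hv) r hr
  have hall : (fixers.all fun q => !(q.1 == v) || [4, 8, 16, 32].all fun w =>
      bb r (app (wmap q.2) w &&& 60) == bb r w) = true := by
    rw [List.all_eq_true]
    intro q hq
    by_cases hqv : q.1 = v
    · simp only [hqv, beq_self_eq_true, Bool.not_true, Bool.false_or, List.all_eq_true, beq_iff_eq]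
      intro w hw
      have hok := List.all_eq_true.1 fixers_ok q hq
      simp only [Bool.and_eq_true, beq_iff_eq, hqv] at hok
      obtain ⟨hlen, c, hc⟩ := F.sys.acts_word q.2
      have hw' := (show ∀ w ∈ [4, 8, 16, 32], w ∈ sect ∧ w < 64 ∧ bb w 1 = false by decide +kernel) w hw
      obtain ⟨a, ha, hpa⟩ := F.sys.surj w hw'.2.1
      have hlt : app (wmap q.2) w < 64 := by rw [← hpa, ← hc.2 a ha]; exact F.sys.lt _ (F.sys.large.conj_mem hc.1 ha)
      rw [← heq _ (reduce_mem _ hlt), ← heq w hw'.1]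
      exact F.L_invariant hvs hlen hc hok.1 hok.2 hw'.2.1 hw'.2.2
    · simp [hqv]
  rw [hall] at hinv
  simp only [Bool.not_true, Bool.false_or, Bool.or_eq_true, beq_iff_eq] at hinv
  rcases hinv with rfl | rfl
  · refine ⟨false, fun w hw => ?_⟩
    rw [heq w hw]
    exact (show ∀ w ∈ sect, bb 0 w = (false && bb v w) from fun w hw => by simp [bb_eq]) w hw
  · exact ⟨true, fun w hw => by rw [heq w hw, Bool.true_and]⟩

theorem L_const : ∃ c : Bool, ∀ v ∈ sect, ∀ w ∈ sect, L v w = (c && bb v w) := by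
  obtain ⟨c1, h1⟩ := F.L_singular (v := 4) (by simp)
  obtain ⟨c2, h2⟩ := F.L_singular (v := 8) (by simp)
  obtain ⟨c3, h3⟩ := F.L_singular (v := 28) (by simp)
  obtain ⟨c4, h4⟩ := F.L_singular (v := 44) (by simp)
  obtain ⟨c5, h5⟩ := F.L_singular (v := 60) (by simp)
  have hmem : ∀ a b c d : Bool, (bif c then 28 else 0) ∈ sect ∧ (bif d then 44 else 0) ∈ sect ∧
      (bif c then 28 else 0) ^^^ (bif d then 44 else 0) ∈ sect ∧ (bif b then 8 else 0) ∈ sect ∧
      (bif b then 8 else 0) ^^^ ((bif c then 28 else 0) ^^^ (bif d then 44 else 0)) ∈ sect ∧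
      (bif a then 4 else 0) ∈ sect ∧ (bif a then 4 else 0) ^^^ ((bif b then 8 else 0) ^^^
        ((bif c then 28 else 0) ^^^ (bif d then 44 else 0))) ∈ sect := by decide +kernel
  have hsum : ∀ a b c d : Bool, ∀ w ∈ sect, L ((bif a then 4 else 0) ^^^ ((bif b then 8 else 0) ^^^
      ((bif c then 28 else 0) ^^^ (bif d then 44 else 0)))) w =
      ((a && L 4 w) ^^ ((b && L 8 w) ^^ ((c && L 28 w) ^^ (d && L 44 w)))) := by
    intro a b c d w hw
    obtain ⟨hw1, hw2, -⟩ := sect_lt w hw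
    obtain ⟨m1, m2, m3, m4, m5, m6, m7⟩ := hmem a b c d
    have h0 : L 0 w = false := by
      have := F.L_left (v := 0) (w := 0) (n := w) (by decide +kernel) (by decide +kernel) (by decide +kernel) hw1 hw2
      rw [Nat.xor_self, Bool.xor_self] at this
      exact this
    have hx : ∀ (a : Bool) (v : Nat), L (bif a then v else 0) w = (a && L v w) := fun a v => by
      cases a
      · rw [Bool.false_and]; exact h0
      · rw [Bool.true_and]; rfl
    rw [F.L_left m6 m5 m7 hw1 hw2, F.L_left m4 m3 m5 hw1 hw2, F.L_left m1 m2 m3 hw1 hw2, hx, hx, hx, hx]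
  have hcomb : ∀ w ∈ [4, 8, 16, 32],
      ((c1 && bb 4 w) ^^ ((c2 && bb 8 w) ^^ ((c3 && bb 28 w) ^^ (c4 && bb 44 w)))) = (c5 && bb 60 w) := by
    intro w hw
    have hw' : w ∈ sect := (show ∀ w ∈ [4, 8, 16, 32], w ∈ sect by decide +kernel) w hw
    rw [← h1 w hw', ← h2 w hw', ← h3 w hw', ← h4 w hw', ← h5 w hw']
    have := hsum true true true true w hw'
    simp only [cond_true, Bool.true_and] at this
    exact this.symm
  obtain ⟨k1, k2, k3, k4⟩ := combination_ok c1 c2 c3 c4 c5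
    (by rw [List.all_eq_true]; intro w hw; rw [beq_iff_eq]; exact hcomb w hw)
  rw [k1] at h1
  rw [k2] at h2
  rw [k3] at h3
  rw [k4] at h4
  refine ⟨c5, fun v hv w hw => ?_⟩
  have hb := List.all_eq_true.1 sect_basis v hv
  simp only [List.any_eq_true, beq_iff_eq] at hb
  obtain ⟨a, -, b, -, c, -, d, -, rfl⟩ := hb
  rw [hsum a b c d w hw, h1 w hw, h2 w hw, h3 w hw, h4 w hw, bb_xor_left, bb_xor_left, bb_xor_left]
  have h0 : bb 0 w = false := by simp [bb_eq]
  cases c5 <;> cases a <;> cases b <;> cases c <;> cases d <;> simp [h0]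

theorem exists_zc_true : ∃ v ∈ sect, ∃ w ∈ sect, L v w = true := by
  have F' := F.swap
  obtain ⟨a, ha, hpa⟩ := F.sys.surj 4 (by norm_num)
  have ha1 : bb (p a) 1 = false := by rw [hpa]; decide +kernel
  have hXQ : Q = (P).map (MulAut.conj k⁻¹).toMonoidHom := by
    ext g
    rw [mem_conjMap, mem_conjMap, show k⁻¹ * (k⁻¹⁻¹ * g * k⁻¹) * k = g by group]
  obtain ⟨v', hv', hA'⟩ := F'.exists_rho (s := a) (hXQ ▸ ha) ((F.comm_x ha).2 ha1)
  have hne : v' ≠ 0 := by
    rintro rfl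
    rw [F'.rho_zero] at hA'
    rcases F.inter_p ha (F'.sys.mem_of_acts_one hA') with e | e <;> rw [hpa] at e <;> omega
  obtain ⟨m, hm, hvm⟩ : ∃ m ∈ sect, bb v' m = true := by
    have h := List.all_eq_true.1 sect_nondeg v' hv'
    simpa [hne] using h
  obtain ⟨hm64, hm1, -⟩ := sect_lt m hm
  obtain ⟨s, hs, hps⟩ := F.sys'.surj m hm64
  have hs1 : bb (p (k⁻¹ * s * k)) 1 = false := by rw [hps]; exact hm1
  have hsz : Commute s z := by
    have := (F'.comm_x hs).2 hs1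
    rwa [show k⁻¹ * X * k⁻¹⁻¹ = z by group] at this
  have e := F'.comm_form hv' (hXQ ▸ ha) ((F.comm_x ha).2 ha1) hA' hs hs1
  rw [show k⁻¹ * X * k⁻¹⁻¹ = z by group, hps, hvm] at e
  obtain ⟨v, hv, hsA⟩ := F.exists_rho hs hsz
  refine ⟨v, hv, 4, by decide +kernel, ?_⟩
  rw [← hpa, ← F.zc_pairing hv hs hsz hsA ha ha1]
  refine F.zc_eq hv hs hsz hsA ha ha1 (j := zc X k⁻¹ a s) ?_
  rw [show s * a * s⁻¹ * a⁻¹ = (a * s * a⁻¹ * s⁻¹)⁻¹ by group, e, mul_inv_rev, F.sys'.sg_inv, F.sys.sg_inv]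

/-- The central part of the commutator is the polar form. -/
theorem L_eq {v w : Nat} (hv : v ∈ sect) (hw : w < 64) (hw1 : bb w 1 = false) : L v w = bb v w := by
  obtain ⟨c, hc⟩ := F.L_const
  obtain ⟨v0, hv0, w0, hw0, h0⟩ := F.exists_zc_true
  rw [hc v0 hv0 w0 hw0, Bool.and_eq_true] at h0
  have h1 := hc v hv _ (reduce_mem w hw)
  rw [F.L_reduce hv hw hw1, h0.1, Bool.true_and] at h1
  rw [h1]
  rcases reduce_perp w hw hw1 with e | e
  · rw [← e]
  · conv_rhs => rw [e, bb_comm, bb_xor_left, bb_comm (w &&& 60), bb_comm 1, (sect_lt v hv).2.1, Bool.xor_false]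

theorem commutator_eq {s a : G} {v : Nat} (hv : v ∈ sect) (hs : s ∈ P) (hsz : Commute s z)
    (hsA : Acts z Q p s (rho v)) (ha : a ∈ Q) (ha1 : bb (p a) 1 = false) :
    s * a * s⁻¹ * a⁻¹ = sg z (bb v (p a)) * sg X (bb v (p a)) := by
  rw [F.comm_form hv hs hsz hsA ha ha1, F.zc_pairing hv hs hsz hsA ha ha1, F.L_eq hv (F.sys.lt a ha) ha1]

/-- The squares. -/
theorem sq_eq {s : G} {v : Nat} (hv : v ∈ sect) (hs : s ∈ P) (hsz : Commute s z)
    (hsA : Acts z Q p s (rho v)) : s * s = sg X (qb v) := by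
  obtain ⟨b, hb, hpb⟩ := F.sys.surj 2 (by norm_num)
  set r := s * b * s⁻¹ * b⁻¹ with hr
  have hrQ : r ∈ Q := Q.mul_mem (F.sys.large.conj_mem hsz hb) (Q.inv_mem hb)
  have hpr : p r = v ^^^ (bif qb v then 1 else 0) := by
    rw [hr, F.sys.map_mul _ (F.sys.large.conj_mem hsz hb) _ (Q.inv_mem hb), F.sys.p_inv hb, hsA.2 b hb, hpb]
    exact beq_iff_eq.1 (List.all_eq_true.1 rho_partner v hv)
  obtain ⟨hv64, hv1, -⟩ := sect_lt v hv
  have hr1 : bb (p r) 1 = false ∧ bb v (p r) = false ∧ qb (p r) = qb v := by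
    rw [hpr]
    exact (show ∀ v ∈ sect, bb (v ^^^ (bif qb v then 1 else 0)) 1 = false ∧
      bb v (v ^^^ (bif qb v then 1 else 0)) = false ∧ qb (v ^^^ (bif qb v then 1 else 0)) = qb v by
        decide +kernel) v hv
  have e1 : s * r * s⁻¹ = r := by
    have := F.commutator_eq hv hs hsz hsA hrQ hr1.1
    rw [hr1.2.1] at this
    exact mul_inv_eq_one.1 (this.trans (one_mul (1 : G)))
  have e2 : s * s * b * (s * s)⁻¹ = sg z (qb v) * b := by
    calc s * s * b * (s * s)⁻¹ = s * (r * b) * s⁻¹ := by rw [hr]; group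
      _ = s * r * s⁻¹ * (s * b * s⁻¹) := by group
      _ = r * (r * b) := by rw [e1, hr]; group
      _ = _ := by rw [← mul_assoc, F.sys.sq r hrQ, hr1.2.2]
  have e3 := F.sys'.sq s hs
  rw [e3] at e2 ⊢
  generalize qb (p (k⁻¹ * s * k)) = i at e2 ⊢
  cases i
  · rw [show sg X false = 1 from rfl] at e2 ⊢
    rw [one_mul, inv_one, mul_one, eq_comm, mul_eq_right] at e2
    rw [F.sys.sg_inj (b := false) e2]
    rfl
  · have h1 := F.sys.conj_eq hb F.memQ
    rw [hpb, F.px, show bb 1 2 = true by decide +kernel] at h1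
    change X * b * X⁻¹ = _ at e2
    rw [h1, (F.sys.sg_comm (F.sys.large.commute_z hb) true).eq, mul_left_inj] at e2
    rw [← F.sys.sg_inj (a := true) e2]

end Frame

end CfsgLib.LocalEvenB.SuzType
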