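import Cfsg.Agent.Lib.LocalEvenB.SuzType.Classes

/-!
The two classes of involutions are different (owner: helper20).
-/

set_option autoImplicit false
set_option linter.unusedSectionVars false
set_option linter.unusedVariables false
set_option linter.style.haveILetI false
set_option quotPrecheck false

namespace CfsgLib.LocalEvenB.SuzType

open CfsgLib.ThreeTrans

variable {G : Type*} [Group G] [Finite G] {z : G} {Q : Subgroup G} {p : G → Nat} {k : G}

/-- Isometries preserve the polar form. -/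
theorem Iso.bb_app {A : List Nat} (hA : Iso A) {a b : Nat} (ha : a < 64) (hb : b < 64) :
    bb (app A a) (app A b) = bb a b := by
  unfold bb
  rw [← app_xor, (hA.2 _ (Nat.xor_lt_two_pow (n := 6) ha hb)).2, (hA.2 a ha).2, (hA.2 b hb).2]

namespace Frame

variable (F : Frame z Q p k)
include F

/-- The far involution is not conjugate to `z`. -/
theorem far_ne {s r : G} (hs : s ∈ Q.map (MulAut.conj k).toMonoidHom) (hr : r ∈ Q) (hpr : p r = 32)
    (htA : Acts z Q p (s * r) (rho 16)) (htt : s * r * (s * r) = 1)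
    (hfix : ∀ a ∈ Q, app (rho 16) (p a) = p a → s * r * a * (s * r)⁻¹ = a * sg z (bb 32 (p a))) :
    ¬ IsConj z (s * r) := by
  classical
  intro hc
  obtain ⟨h, hh⟩ := isConj_iff.1 hc
  set t := s * r with ht
  have F' := F.move h
  rw [hh] at F'
  set Q' := Q.map (MulAut.conj h).toMonoidHom with hQ'
  have htQ : t ∉ Q := F.sys.not_mem_of_acts (F.rho_len 16) htA (by decide +kernel)
  have hL : 32 ≤ Nat.card Q' := by rw [F'.sys.card]; norm_num
  have hzQ' : z ∉ Q' := by
    intro hzm
    have e : h⁻¹ * t * h⁻¹⁻¹ = z := by rw [← hh]; group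
    have hm := F'.sys.large.mem_conj hL (g := h⁻¹) (by rw [e]; exact hzm)
    rw [mem_conjMap, hQ', mem_conjMap,
      show h⁻¹ * (h⁻¹⁻¹ * t * h⁻¹) * h = t by group] at hm
    exact htQ hm
  have hB : 16 ≤ Nat.card (Q' ⊓ Subgroup.centralizer ({z} : Set G) : Subgroup G) :=
    F'.card_ge htA.1.symm F.sys.large.mul_self_z hzQ'
  have hcomm : ∀ a ∈ Q, Commute a t → app (rho 16) (p a) = p a ∧ bb 32 (p a) = false := by
    intro a ha hat
    have e : t * a * t⁻¹ = a := by rw [← hat.eq, mul_inv_cancel_right]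
    have hf : app (rho 16) (p a) = p a := by rw [← htA.2 a ha, e]
    refine ⟨hf, (F.sys.sg_inj (mul_left_cancel ((mul_one a).trans (e.symm.trans (hfix a ha hf))))).symm⟩
  have hlift : ∀ n ∈ kerList 16 32, ∀ a ∈ Q, p a = n → Commute a t := by
    intro n hn a ha hpa
    subst hpa
    simp only [kerList, List.mem_filter, List.mem_range, Bool.and_eq_true, Bool.not_eq_true', fixB,
      beq_iff_eq] at hn
    have e := hfix a ha hn.2.1
    rw [hn.2.2] at e
    exact (mul_inv_eq_iff_eq_mul.1 (e.trans (mul_one a))).symm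
  -- the two groups meet trivially
  have hI : ∀ e ∈ Q, e ∈ Q' → e = 1 := by
    intro e he he'
    obtain ⟨hf, hb⟩ := hcomm e he (F'.sys.large.commute_z he')
    have hzero : p e = 0 → e = 1 := fun e0 =>
      (F.sys.ker e he e0).resolve_right fun ez => hzQ' (ez ▸ he')
    have hrad := List.all_eq_true.1 kerList_rad _ (List.mem_range.2 (F.sys.lt e he))
    simp only [fixB, hf, beq_self_eq_true, Bool.not_true, Bool.false_or, hb, Bool.or_eq_true, beq_iff_eq,
      List.any_eq_true] at hrad
    rcases hrad with (e0 | e1) | ⟨n, hn, hbn⟩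
    · exact hzero e0
    · exfalso
      have hee : e * e = 1 := by
        rw [F.sys.sq e he, e1, show qb 1 = false by decide +kernel]; rfl
      have hne : e ≠ 1 := fun e' => by rw [e', F.sys.p_one] at e1; exact zero_ne_one e1
      have hnz : e ≠ z := fun e' => by rw [e', F.sys.z0] at e1; exact zero_ne_one e1
      obtain ⟨w, hw, hpw, hew⟩ : ∃ w ∈ Q, (p w = 2 ∨ p w = 0) ∧ e = w * k * z * (w * k)⁻¹ := by
        obtain ⟨i, e'⟩ := F.sys.eq_of_p F.memQ he (by rw [F.px, e1])
        cases i
        · exact ⟨1, Q.one_mem, Or.inr F.sys.p_one, by rw [e', show sg z false = 1 from rfl, mul_one, one_mul]⟩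
        · obtain ⟨w, hw, hpw⟩ := F.sys.surj 2 (by norm_num)
          refine ⟨w, hw, Or.inl hpw, ?_⟩
          rw [show w * k * z * (w * k)⁻¹ = w * (k * z * k⁻¹) * w⁻¹ by group, F.sys.conj_eq F.memQ hw, hpw,
            F.px, show bb 2 1 = true by decide +kernel, e']
      have hm := F'.sys.large.mem_conj hL (g := w * k * h⁻¹) (by
        rw [show w * k * h⁻¹ * t * (w * k * h⁻¹)⁻¹ = w * k * (h⁻¹ * t * h) * (w * k)⁻¹ by group,
          show h⁻¹ * t * h = z by rw [← hh]; group, ← hew]
        exact he')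
      rw [mem_conjMap, hQ', mem_conjMap, show h⁻¹ * ((w * k * h⁻¹)⁻¹ * t * (w * k * h⁻¹)) * h =
        k⁻¹ * (w⁻¹ * t * w) * k by group, ← mem_conjMap] at hm
      set d := t⁻¹ * w⁻¹ * t⁻¹⁻¹ * w with hd
      have hdQ : d ∈ Q := Q.mul_mem (F.sys.large.conj_mem htA.1.inv_left (Q.inv_mem hw)) hw
      have hrd : r * d ∈ Q.map (MulAut.conj k).toMonoidHom := by
        have := Subgroup.mul_mem _ (Subgroup.inv_mem _ hs) hm
        rwa [show s⁻¹ * (w⁻¹ * t * w) = r * d by rw [hd, ht]; group] at this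
      have hpd : p d = app (rho 16) (p w) ^^^ p w := by
        have hw1 : t⁻¹ * w⁻¹ * t⁻¹⁻¹ = t * w⁻¹ * t⁻¹ := by rw [inv_inv, inv_of_sq htt]
        rw [hd, hw1, F.sys.map_mul _ (F.sys.large.conj_mem htA.1 (Q.inv_mem hw)) _ hw,
          htA.2 _ (Q.inv_mem hw), F.sys.p_inv hw]
      have hbad : p (r * d) = 0 ∨ p (r * d) = 1 := F.inter_p (Q.mul_mem hr hdQ) hrd
      rw [F.sys.map_mul r hr d hdQ, hpr, hpd] at hbad
      rcases hpw with e2 | e2 <;> rw [e2] at hbad
      · exact hbad.elim far_shift.1 far_shift.2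
      · revert hbad
        decide +kernel
    · obtain ⟨a, ha, hpa⟩ := F.sys.surj n (by
        simp only [kerList, List.mem_filter, List.mem_range] at hn
        exact hn.1)
      have hat := hlift n hn a ha hpa
      have hz : e⁻¹ * (a * e * a⁻¹) ∈ Q' :=
        Q'.mul_mem (Q'.inv_mem he') (F'.sys.large.conj_mem hat he')
      rw [F.sys.conj_eq he ha, hpa, hbn, inv_mul_cancel_left] at hz
      exact absurd hz hzQ'
  -- the fixed part of `Q` commutes with the fixed part of `Q'`
  set B : Subgroup G := Q' ⊓ Subgroup.centralizer ({z} : Set G) with hBdef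
  have hBz : ∀ b ∈ B, Commute b z := fun b hb => mem_centralizer_singleton_iff'.1 hb.2
  have hcom : ∀ n ∈ kerList 16 32, ∀ a ∈ Q, p a = n → ∀ b ∈ B, Commute b a := by
    intro n hn a ha hpa b hb
    have e : b * a * b⁻¹ * a⁻¹ = 1 := by
      refine hI _ (Q.mul_mem (F.sys.large.conj_mem (hBz b hb) ha) (Q.inv_mem ha)) ?_
      rw [show b * a * b⁻¹ * a⁻¹ = b * (a * b⁻¹ * a⁻¹) by group]
      exact Q'.mul_mem hb.1 (F'.sys.large.conj_mem (hlift n hn a ha hpa) (Q'.inv_mem hb.1))
    exact mul_inv_eq_iff_eq_mul.1 (mul_inv_eq_one.1 e)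
  choose A hA hAb using fun b : B => F.sys.exists_acts (hBz b b.2)
  have hcand : ∀ b : B, A b ∈ boundCand.filter fun A => comp A (rho 16) == comp (rho 16) A &&
      (bb (A.getD 4 0) (A.getD 5 0) && (!bb (A.getD 1 0) (A.getD 4 0) && !bb (A.getD 1 0) (A.getD 5 0))) := by
    intro b
    have hcm : comp (A b) (rho 16) = comp (rho 16) (A b) := by
      refine F.sys.acts_unique (by rw [length_comp, F.rho_len]) (by rw [length_comp, (hA b).1])
        (F.sys.acts_mul (F.rho_len 16) (hAb b) htA) ?_
      have := F.sys.acts_mul (hA b).1 htA (hAb b)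
      rwa [← (F'.sys.large.commute_z b.2.1).eq] at this
    have hfx : ∀ n ∈ [1, 4, 8], app (A b) n = n := by
      intro n hn
      have hk := List.all_eq_true.1 kerList_basis n hn
      rw [List.contains_iff_mem] at hk
      have hn64 : n < 64 := by
        simp only [kerList, List.mem_filter, List.mem_range] at hk
        exact hk.1
      obtain ⟨a, ha, hpa⟩ := F.sys.surj n hn64
      have := (hAb b).2 a ha
      rw [(hcom n hk a ha hpa b b.2).eq, mul_inv_cancel_right, hpa] at this
      exact this.symm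
    obtain ⟨a0, a1, a2, a3, a4, a5, hlist⟩ : ∃ a0 a1 a2 a3 a4 a5, A b = [a0, a1, a2, a3, a4, a5] := by
      match A b, (hA b).1 with
      | [a0, a1, a2, a3, a4, a5], _ => exact ⟨a0, a1, a2, a3, a4, a5, rfl⟩
    have hI' := hA b
    rw [hlist] at hI' hfx hcm ⊢
    have v0 : app [a0, a1, a2, a3, a4, a5] 1 = a0 := by simp [app, term, Nat.testBit, Nat.shiftRight_eq_div_pow]
    have v1 : app [a0, a1, a2, a3, a4, a5] 2 = a1 := by simp [app, term, Nat.testBit, Nat.shiftRight_eq_div_pow]
    have v2 : app [a0, a1, a2, a3, a4, a5] 4 = a2 := by simp [app, term, Nat.testBit, Nat.shiftRight_eq_div_pow]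
    have v3 : app [a0, a1, a2, a3, a4, a5] 8 = a3 := by simp [app, term, Nat.testBit, Nat.shiftRight_eq_div_pow]
    have v4 : app [a0, a1, a2, a3, a4, a5] 16 = a4 := by simp [app, term, Nat.testBit, Nat.shiftRight_eq_div_pow]
    have v5 : app [a0, a1, a2, a3, a4, a5] 32 = a5 := by simp [app, term, Nat.testBit, Nat.shiftRight_eq_div_pow]
    obtain rfl : a0 = 1 := v0.symm.trans (hfx 1 (by simp))
    obtain rfl : a2 = 4 := v2.symm.trans (hfx 4 (by simp))
    obtain rfl : a3 = 8 := v3.symm.trans (hfx 8 (by simp))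
    obtain ⟨t1, t2, t3, t4, t5, t6, t7, t8, t9, q1, q4, q5, t45, t14, t15⟩ := bb_table
    have B := fun {m n : Nat} (hm : m < 64) (hn : n < 64) => hI'.bb_app hm hn
    have b1 := B (m := 2) (n := 1) (by norm_num) (by norm_num)
    have b2 := B (m := 2) (n := 4) (by norm_num) (by norm_num)
    have b3 := B (m := 2) (n := 8) (by norm_num) (by norm_num)
    have b4 := B (m := 16) (n := 1) (by norm_num) (by norm_num)
    have b5 := B (m := 16) (n := 4) (by norm_num) (by norm_num)
    have b6 := B (m := 16) (n := 8) (by norm_num) (by norm_num)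
    have b7 := B (m := 32) (n := 1) (by norm_num) (by norm_num)
    have b8 := B (m := 32) (n := 4) (by norm_num) (by norm_num)
    have b9 := B (m := 32) (n := 8) (by norm_num) (by norm_num)
    have b10 := B (m := 16) (n := 32) (by norm_num) (by norm_num)
    have b11 := B (m := 2) (n := 16) (by norm_num) (by norm_num)
    have b12 := B (m := 2) (n := 32) (by norm_num) (by norm_num)
    have l1 := hI'.2 2 (by norm_num)
    have l4 := hI'.2 16 (by norm_num)
    have l5 := hI'.2 32 (by norm_num)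
    rw [v1] at l1
    rw [v4] at l4
    rw [v5] at l5
    rw [v1, v0, t1] at b1
    rw [v1, v2, t2] at b2
    rw [v1, v3, t3] at b3
    rw [v4, v0, t4] at b4
    rw [v4, v2, t5] at b5
    rw [v4, v3, t6] at b6
    rw [v5, v0, t7] at b7
    rw [v5, v2, t8] at b8
    rw [v5, v3, t9] at b9
    rw [v4, v5, t45] at b10
    rw [v1, v4, t14] at b11
    rw [v1, v5, t15] at b12
    rw [q1] at l1
    rw [q4] at l4
    rw [q5] at l5
    refine List.mem_filter.2 ⟨?_, ?_⟩
    · simp only [boundCand, List.mem_flatMap, List.mem_map, List.mem_filter, List.mem_range]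
      exact ⟨a1, ⟨l1.1, by simp [l1.2, b1, b2, b3]⟩, a4, ⟨l4.1, by simp [l4.2, b4, b5, b6]⟩, a5,
        ⟨l5.1, by simp [l5.2, b7, b8, b9]⟩, rfl⟩
    · simp [hcm, b10, b11, b12]
  have hinj : Function.Injective A := by
    intro b1 b2 e
    refine Subtype.ext (inv_mul_eq_one.1 (hI _ (F.sys.inv_mul_mem (hAb b1) (e ▸ hAb b2))
      (Q'.mul_mem (Q'.inv_mem b1.2.1) b2.2.1)))
  have hle : Nat.card B ≤ 8 := by
    haveI := Fintype.ofFinite B
    rw [Nat.card_eq_fintype_card, ← Finset.card_univ]
    exact le_trans (Finset.card_le_card_of_injOn A (fun b _ => List.mem_toFinset.2 (hcand b)) hinj.injOn)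
      (le_trans (List.toFinset_card_le _) bound_ok)
  omega

end Frame

end CfsgLib.LocalEvenB.SuzType
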