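import Mathlib
import Cfsg.Agent.Lib.LocalEvenB.SuzType.Data

/-!
The six-dimensional quadratic space of minus type over two elements on the numbers below 64, linear maps as
lists of the images of the basis, and the finite facts used for groups of Suzuki type (owner: helper20).
-/

set_option autoImplicit false
set_option maxRecDepth 100000
set_option Elab.async false

namespace CfsgLib.LocalEvenB.SuzType

/-- The quadratic form. -/
def qb (n : Nat) : Bool :=
  (n.testBit 0 && n.testBit 1) ^^ ((n.testBit 2 && n.testBit 3) ^^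
    (n.testBit 4 ^^ ((n.testBit 4 && n.testBit 5) ^^ n.testBit 5)))

/-- The polar form. -/
def bb (a c : Nat) : Bool := qb (a ^^^ c) ^^ (qb a ^^ qb c)

/-- The contribution of one coordinate. -/
def term (A : List Nat) (i n : Nat) : Nat := bif n.testBit i then A.getD i 0 else 0

/-- Application of a linear map. -/
def app (A : List Nat) (n : Nat) : Nat :=
  term A 0 n ^^^ (term A 1 n ^^^ (term A 2 n ^^^ (term A 3 n ^^^ (term A 4 n ^^^ term A 5 n))))

/-- Composition. -/
def comp (A B : List Nat) : List Nat := B.map (app A)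

/-- The identity. -/
def one : List Nat := [1, 2, 4, 8, 16, 32]

/-- The map of a word. -/
def wmap (w : List Nat) : List Nat := w.foldr (fun i B => comp (gens.getD i one) B) one

/-- The Siegel element at the first basis vector along `v`. -/
def rho (v : Nat) : List Nat :=
  one.map fun y => y ^^^ ((bif bb y v then 1 else 0) ^^^ (bif bb y 1 then v ^^^ (bif qb v then 1 else 0) else 0))

/-- Isometry, decidably. -/
def isoB (A : List Nat) : Bool :=
  A.length == 6 && (List.range 64).all fun n => decide (app A n < 64) && (qb (app A n) == qb n)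

/-- Being an isometry. -/
def Iso (A : List Nat) : Prop := A.length = 6 ∧ ∀ n < 64, app A n < 64 ∧ qb (app A n) = qb n

theorem isoB_iff {A : List Nat} : isoB A = true ↔ Iso A := by
  simp [isoB, Iso]

/-- A fixed vector. -/
def fixB (A : List Nat) (a : Nat) : Bool := app A a == a

/-- A vector of the image of `A + 1`. -/
def imB (A : List Nat) (a : Nat) : Bool := (List.range 64).any fun b => a == b ^^^ app A b

/-! ### Linearity -/

theorem app_zero (A : List Nat) : app A 0 = 0 := by simp [app, term]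

theorem term_xor (A : List Nat) (i a b : Nat) : term A i (a ^^^ b) = term A i a ^^^ term A i b := by
  unfold term
  rw [Nat.testBit_xor]
  cases a.testBit i <;> cases b.testBit i <;> simp

theorem app_xor (A : List Nat) (a b : Nat) : app A (a ^^^ b) = app A a ^^^ app A b := by
  simp only [app, term_xor]
  ac_rfl

theorem app_term (A B : List Nat) (hB : B.length = 6) {i : Nat} (hi : i < 6) (n : Nat) :
    term (comp A B) i n = app A (term B i n) := by
  unfold term
  cases n.testBit i
  · simp [app_zero]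
  · simp [comp, List.getD_eq_getElem?_getD, List.getElem?_map, List.getElem?_eq_getElem (hB ▸ hi)]

theorem app_comp {A B : List Nat} (hB : B.length = 6) (n : Nat) : app (comp A B) n = app A (app B n) := by
  rw [show app B n = term B 0 n ^^^ (term B 1 n ^^^ (term B 2 n ^^^ (term B 3 n ^^^
    (term B 4 n ^^^ term B 5 n)))) from rfl]
  simp only [app_xor]
  rw [← app_term A B hB (i := 0) (by norm_num), ← app_term A B hB (i := 1) (by norm_num),
    ← app_term A B hB (i := 2) (by norm_num), ← app_term A B hB (i := 3) (by norm_num),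
    ← app_term A B hB (i := 4) (by norm_num), ← app_term A B hB (i := 5) (by norm_num)]
  rfl

theorem length_comp (A B : List Nat) : (comp A B).length = B.length := List.length_map _

theorem app_one : ∀ n < 64, app one n = n := by decide +kernel

/-- An additive map is the application of its values on the basis. -/
theorem additive_eq (f : Nat → Nat) (hf : ∀ a < 64, ∀ b < 64, f (a ^^^ b) = f a ^^^ f b) (n : Nat) (hn : n < 64) :
    f n = app [f 1, f 2, f 4, f 8, f 16, f 32] n := by
  have h0 : f 0 = 0 := by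
    have := hf 0 (by norm_num) 0 (by norm_num)
    simpa using this
  have hlt : ∀ (i m : Nat), term one i m < 64 := by
    intro i m
    unfold term one
    cases m.testBit i
    · simp
    · rcases i with _ | _ | _ | _ | _ | _ | i <;> simp
  have hx : ∀ {a b : Nat}, a < 64 → b < 64 → a ^^^ b < 64 := fun ha hb =>
    Nat.xor_lt_two_pow (n := 6) ha hb
  have ht : ∀ i < 6, f (term one i n) = term [f 1, f 2, f 4, f 8, f 16, f 32] i n := by
    intro i hi
    unfold term one
    cases n.testBit i
    · simp [h0]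
    · interval_cases i <;> simp
  conv_lhs => rw [← app_one n hn]
  unfold app
  rw [hf _ (hlt 0 n) _ (hx (hlt 1 n) (hx (hlt 2 n) (hx (hlt 3 n) (hx (hlt 4 n) (hlt 5 n))))),
    hf _ (hlt 1 n) _ (hx (hlt 2 n) (hx (hlt 3 n) (hx (hlt 4 n) (hlt 5 n)))),
    hf _ (hlt 2 n) _ (hx (hlt 3 n) (hx (hlt 4 n) (hlt 5 n))),
    hf _ (hlt 3 n) _ (hx (hlt 4 n) (hlt 5 n)), hf _ (hlt 4 n) _ (hlt 5 n),
    ht 0 (by norm_num), ht 1 (by norm_num), ht 2 (by norm_num), ht 3 (by norm_num), ht 4 (by norm_num),
    ht 5 (by norm_num)]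

theorem eq_of_app {A B : List Nat} (hA : A.length = 6) (hB : B.length = 6)
    (h : ∀ n ∈ one, app A n = app B n) : A = B := by
  obtain ⟨a0, a1, a2, a3, a4, a5, rfl⟩ : ∃ a0 a1 a2 a3 a4 a5, A = [a0, a1, a2, a3, a4, a5] := by
    match A, hA with
    | [a0, a1, a2, a3, a4, a5], _ => exact ⟨a0, a1, a2, a3, a4, a5, rfl⟩
  obtain ⟨b0, b1, b2, b3, b4, b5, rfl⟩ : ∃ b0 b1 b2 b3 b4 b5, B = [b0, b1, b2, b3, b4, b5] := by
    match B, hB with
    | [b0, b1, b2, b3, b4, b5], _ => exact ⟨b0, b1, b2, b3, b4, b5, rfl⟩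
  simpa [one, app, term, Nat.testBit, Nat.shiftRight_eq_div_pow] using h

theorem hyp_pair : ∀ a b c d : Bool,
    (((a ^^ c) && (b ^^ d)) ^^ ((a && b) ^^ (c && d))) = ((a && d) ^^ (b && c)) := by decide

theorem aniso_pair : ∀ a b c d : Bool,
    (((a ^^ c) ^^ (((a ^^ c) && (b ^^ d)) ^^ (b ^^ d))) ^^
      ((a ^^ ((a && b) ^^ b)) ^^ (c ^^ ((c && d) ^^ d)))) = ((a && d) ^^ (b && c)) := by decide

theorem regroup_nine : ∀ l1 l2 l3 a1 a2 a3 c1 c2 c3 : Bool,
    ((l1 ^^ (l2 ^^ l3)) ^^ ((a1 ^^ (a2 ^^ a3)) ^^ (c1 ^^ (c2 ^^ c3)))) =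
      ((l1 ^^ (a1 ^^ c1)) ^^ ((l2 ^^ (a2 ^^ c2)) ^^ (l3 ^^ (a3 ^^ c3)))) := by decide

theorem regroup_six : ∀ a1 a2 a3 b1 b2 b3 : Bool,
    ((a1 ^^ b1) ^^ ((a2 ^^ b2) ^^ (a3 ^^ b3))) = ((a1 ^^ (a2 ^^ a3)) ^^ (b1 ^^ (b2 ^^ b3))) := by decide

theorem pair_linear : ∀ a b a' b' c d : Bool,
    (((a ^^ a') && d) ^^ ((b ^^ b') && c)) = (((a && d) ^^ (b && c)) ^^ ((a' && d) ^^ (b' && c))) := by decide

/-- The polar form in coordinates. -/
theorem bb_eq (a c : Nat) : bb a c =
    (((a.testBit 0 && c.testBit 1) ^^ (a.testBit 1 && c.testBit 0)) ^^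
      (((a.testBit 2 && c.testBit 3) ^^ (a.testBit 3 && c.testBit 2)) ^^
        ((a.testBit 4 && c.testBit 5) ^^ (a.testBit 5 && c.testBit 4)))) := by
  rw [← hyp_pair (a.testBit 0) (a.testBit 1) (c.testBit 0) (c.testBit 1),
    ← hyp_pair (a.testBit 2) (a.testBit 3) (c.testBit 2) (c.testBit 3),
    ← aniso_pair (a.testBit 4) (a.testBit 5) (c.testBit 4) (c.testBit 5)]
  simp only [bb, qb, Nat.testBit_xor]
  rw [regroup_nine]

theorem bb_xor_left (a b c : Nat) : bb (a ^^^ b) c = (bb a c ^^ bb b c) := by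
  rw [bb_eq, bb_eq, bb_eq, Nat.testBit_xor, Nat.testBit_xor, Nat.testBit_xor, Nat.testBit_xor,
    Nat.testBit_xor, Nat.testBit_xor, pair_linear, pair_linear, pair_linear, regroup_six]

theorem bb_comm : ∀ a b : Nat, bb a b = bb b a := fun a b => by
  unfold bb
  rw [Nat.xor_comm a b, Bool.xor_comm (qb a)]

end CfsgLib.LocalEvenB.SuzType
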