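import Cfsg.Agent.Lib.LocalEvenB.SuzType.Form

/-!
The involutions of the centralizer of `z` outside `Q`: two conjugacy classes of lifts (owner: helper20).
-/

set_option autoImplicit false
set_option linter.unusedSectionVars false
set_option linter.unusedVariables false
set_option quotPrecheck false
set_option linter.style.haveILetI false

namespace CfsgLib.LocalEvenB.SuzType

open CfsgLib.ThreeTrans

variable {G : Type*} [Group G] [Finite G] {z : G} {Q : Subgroup G} {p : G → Nat} {k : G}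

theorem inv_of_sq {t : G} (ht : t * t = 1) : t⁻¹ = t := inv_eq_of_mul_eq_one_left ht

theorem conj_sq_one {t : G} (ht : t * t = 1) (c : G) : c * t * c⁻¹ * (c * t * c⁻¹) = 1 := by
  calc c * t * c⁻¹ * (c * t * c⁻¹) = c * (t * t) * c⁻¹ := by group
    _ = 1 := by rw [ht, mul_one, mul_inv_cancel]

namespace Sys

variable (h : Sys z Q p)
include h

theorem app_inj {c : G} {A : List Nat} (hc : Acts z Q p c A) {m n : Nat} (hm : m < 64) (hn : n < 64)
    (e : app A m = app A n) : m = n := by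
  obtain ⟨a, ha, rfl⟩ := h.surj m hm
  obtain ⟨b, hb, rfl⟩ := h.surj n hn
  rw [← hc.2 a ha, ← hc.2 b hb] at e
  obtain ⟨i, e'⟩ := h.eq_of_p (h.large.conj_mem hc.1 ha) (h.large.conj_mem hc.1 hb) e
  have hb' : b = a * sg z i := by
    calc b = c⁻¹ * (c * b * c⁻¹) * c := by group
      _ = a * (c⁻¹ * (sg z i * c)) := by rw [e']; group
      _ = a * sg z i := by rw [← (h.sg_comm hc.1 i).eq]; group
  rw [hb', h.map_mul a ha _ (h.sg_mem i), h.p_sg, Nat.xor_zero]

theorem acts_z : Acts z Q p z one := h.acts_of_mem h.large.z_mem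

theorem not_mem_of_acts {c : G} {A : List Nat} (hA : A.length = 6) (hc : Acts z Q p c A) (hne : A ≠ one) :
    c ∉ Q := fun hm => hne (h.acts_unique hA (by rfl) hc (h.acts_of_mem hm))

/-- An involution in the coset of another one. -/
theorem coset {t t' : G} {A : List Nat} (ht : t * t = 1) (ht' : t' * t' = 1) (htA : Acts z Q p t A)
    (htA' : Acts z Q p t' A) : ∃ q ∈ Q, t' = t * q ∧ app A (p q) = p q ∧
      t * q * t⁻¹ = q * sg z (qb (p q)) := by
  have hq : t⁻¹ * t' ∈ Q := h.inv_mul_mem htA htA'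
  have e : t * (t⁻¹ * t') * t⁻¹ = (t⁻¹ * t') * sg z (qb (p (t⁻¹ * t'))) := by
    rw [← h.inv_eq hq, inv_of_sq ht, mul_inv_rev, inv_of_sq ht, inv_of_sq ht']
    simp only [← mul_assoc, ht, one_mul]
  refine ⟨_, hq, (mul_inv_cancel_left t t').symm, ?_, e⟩
  rw [← htA.2 _ hq, e, h.map_mul _ hq _ (h.sg_mem _), h.p_sg, Nat.xor_zero]

/-- An image vector gives a `Q`-conjugate. -/
theorem conj_of_im {t q : G} {A : List Nat} (ht : t * t = 1) (htA : Acts z Q p t A) (hq : q ∈ Q)
    (him : imB A (p q) = true) : ∃ β ∈ Q, β * t * β⁻¹ = t * q ∨ β * t * β⁻¹ = t * q * z := by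
  simp only [imB, List.any_eq_true, beq_iff_eq, List.mem_range] at him
  obtain ⟨b, hb, e⟩ := him
  obtain ⟨β, hβ, rfl⟩ := h.surj b hb
  have hd : t * β * t⁻¹ * β⁻¹ ∈ Q := Q.mul_mem (h.large.conj_mem htA.1 hβ) (Q.inv_mem hβ)
  have hpd : p (t * β * t⁻¹ * β⁻¹) = p q := by
    rw [h.map_mul _ (h.large.conj_mem htA.1 hβ) _ (Q.inv_mem hβ), h.p_inv hβ, htA.2 β hβ, e, Nat.xor_comm]
  have hc : β * t * β⁻¹ = t * (t * β * t⁻¹ * β⁻¹) := by
    rw [inv_of_sq ht]
    simp only [← mul_assoc, ht, one_mul]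
  obtain ⟨i, e'⟩ := h.eq_of_p hq hd hpd.symm
  rw [e'] at hc
  refine ⟨β, hβ, ?_⟩
  cases i
  · exact Or.inl (by rwa [show sg z false = 1 from rfl, mul_one] at hc)
  · exact Or.inr (by rwa [show sg z true = z from rfl, ← mul_assoc] at hc)

/-- Many elements of `Q` commute with an element acting trivially on many vectors. -/
theorem sixteen_le {t : G} (l : List Nat) (hnd : l.Nodup) (hlen : l.length = 8)
    (hl : ∀ n ∈ l, n < 64 ∧ ∀ a ∈ Q, p a = n → Commute a t) (htz : Commute z t) :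
    16 ≤ Nat.card (Q ⊓ Subgroup.centralizer ({t} : Set G) : Subgroup G) := by
  classical
  haveI := Fintype.ofFinite (Q ⊓ Subgroup.centralizer ({t} : Set G) : Subgroup G)
  choose r hr hpr using h.surj
  let f : Fin 8 × Bool → (Q ⊓ Subgroup.centralizer ({t} : Set G) : Subgroup G) := fun i =>
    ⟨r (l[(i.1 : Nat)]'(by rw [hlen]; exact i.1.2)) (hl _ (List.getElem_mem _)).1 * sg z i.2, by
      refine ⟨Q.mul_mem (hr _ _) (h.sg_mem _), mem_centralizer_singleton_iff'.2 ?_⟩
      exact ((hl _ (List.getElem_mem _)).2 _ (hr _ _) (hpr _ _)).mul_left (h.sg_comm htz.symm i.2).symm⟩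
  have hf : Function.Injective f := by
    rintro ⟨i, b⟩ ⟨j, c⟩ e
    have e' := congrArg Subtype.val e
    have ep := congrArg p e'
    simp only [f] at e' ep
    rw [h.map_mul _ (hr _ _) _ (h.sg_mem _), h.map_mul _ (hr _ _) _ (h.sg_mem _), h.p_sg, h.p_sg,
      Nat.xor_zero, Nat.xor_zero, hpr, hpr] at ep
    obtain rfl : i = j := Fin.ext ((List.Nodup.getElem_inj_iff hnd).1 ep)
    exact Prod.ext rfl (h.sg_inj (mul_left_cancel e'))
  have := Nat.card_le_card_of_injective f hf
  simpa [Nat.card_prod] using this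

end Sys

namespace Frame

variable (F : Frame z Q p k)
include F

local notation "X" => k * z * k⁻¹
local notation "P" => Q.map (MulAut.conj k).toMonoidHom

/-- Noncentral involutions of `Q` are conjugate to `z`. -/
theorem inner {a : G} (ha : a ∈ Q) (haa : a * a = 1) (h1 : a ≠ 1) (hz : a ≠ z) : IsConj z a := by
  have hq : qb (p a) = false := F.sys.sg_inj ((F.sys.sq a ha).symm.trans (haa.trans rfl))
  have h0 : p a ≠ 0 := fun e => (F.sys.ker a ha e).elim h1 hz
  have hm := List.all_eq_true.1 toOne_ok (p a) (List.mem_range.2 (F.sys.lt a ha))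
  simp only [hq, Bool.or_eq_true, beq_iff_eq, h0, Bool.false_eq_true, or_false, false_or,
    List.any_eq_true, Bool.and_eq_true] at hm
  obtain ⟨w, -, hwn, hw1⟩ := hm
  obtain ⟨hl, c, hc⟩ := F.sys.acts_word w.2
  have hca : c * a * c⁻¹ ∈ Q := F.sys.large.conj_mem hc.1 ha
  have hpc : p (c * a * c⁻¹) = p X := by rw [hc.2 a ha, hw1, F.px]
  have hzx : IsConj z X := isConj_iff.2 ⟨k, rfl⟩
  obtain ⟨i, e⟩ := F.sys.eq_of_p hca F.memQ hpc
  have hx : IsConj z (c * a * c⁻¹) := by
    cases i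
    · rw [show sg z false = 1 from rfl, mul_one] at e
      rwa [← e]
    · obtain ⟨q, hq1, hq2⟩ := F.sys.surj 2 (by norm_num)
      have e2 := F.sys.conj_eq F.memQ hq1
      rw [hq2, F.px, show bb 2 1 = true by decide +kernel] at e2
      have e3 : c * a * c⁻¹ = q * X * q⁻¹ := by
        rw [e2, e, mul_assoc (c * a * c⁻¹), F.sys.sg_mul, Bool.xor_self]
        exact (mul_one _).symm
      rw [e3]
      exact hzx.trans (isConj_iff.2 ⟨q, rfl⟩)
  exact hx.trans (isConj_iff.2 ⟨c, rfl⟩ : IsConj a (c * a * c⁻¹)).symm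

theorem swap_map : (P).map (MulAut.conj k⁻¹).toMonoidHom = Q := by
  ext g
  rw [mem_conjMap, mem_conjMap, show k⁻¹ * (k⁻¹⁻¹ * g * k⁻¹) * k = g by group]

/-- An involution inducing `rho 4`, lying in `P`. -/
theorem exists_near : ∃ s ∈ P, Acts z Q p s (rho 4) ∧ s * s = 1 ∧ IsConj z s ∧ IsConj z (s * z) ∧
    ∀ a ∈ Q, app (rho 4) (p a) = p a → Commute a s := by
  obtain ⟨s, hs, hsz, hsA⟩ := F.exists_s (v := 4) (by decide +kernel)
  have hss : s * s = 1 := by
    rw [F.sq_eq (by decide +kernel) hs hsz hsA, show qb 4 = false by decide +kernel]; rfl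
  have hne : rho 4 ≠ one := by decide +kernel
  have hsQ : s ∉ Q := F.sys.not_mem_of_acts (F.rho_len 4) hsA hne
  have hzx : IsConj z X := isConj_iff.2 ⟨k, rfl⟩
  have F' := F.swap
  refine ⟨s, hs, hsA, hss, hzx.trans (F'.inner hs hss (fun e => hsQ (e ▸ Q.one_mem))
      (fun e => hsQ (e ▸ F.memQ))), hzx.trans (F'.inner (Subgroup.mul_mem _ hs F.z_memP) ?_ ?_ ?_), ?_⟩
  · rw [show s * z * (s * z) = s * (z * s) * z by group, ← hsz.eq, ← mul_assoc, hss, one_mul,
      F.sys.large.mul_self_z]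
  · intro e
    exact hsQ (by rw [mul_eq_one_iff_eq_inv.1 e]; exact Q.inv_mem F.sys.large.z_mem)
  · intro e
    exact hsQ (by rw [eq_mul_inv_of_mul_eq e]; exact Q.mul_mem F.memQ (Q.inv_mem F.sys.large.z_mem))
  · intro a ha hfix
    have h64 := List.mem_range.2 (F.sys.lt a ha)
    have h1 := List.all_eq_true.1 inner_fix_perp _ h64
    have h4 := List.all_eq_true.1 inner_fix_form _ h64
    simp only [fixB, hfix, beq_self_eq_true, Bool.not_true, Bool.false_or, Bool.not_eq_true'] at h1 h4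
    have := F.commutator_eq (by decide +kernel) hs hsz hsA ha h1
    rw [bb_comm 4, h4] at this
    exact (mul_inv_eq_iff_eq_mul.1 (mul_inv_eq_one.1 (this.trans (one_mul (1 : G))))).symm

/-- An involution inducing `rho 16`. -/
theorem exists_far : ∃ s ∈ P, ∃ r ∈ Q, p r = 32 ∧ Commute r X ∧ Acts z Q p (s * r) (rho 16) ∧
    s * r * (s * r) = 1 ∧
    ∀ a ∈ Q, app (rho 16) (p a) = p a → s * r * a * (s * r)⁻¹ = a * sg z (bb 32 (p a)) := by
  obtain ⟨s, hs, hsz, hsA⟩ := F.exists_s (v := 16) (by decide +kernel)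
  obtain ⟨r, hr, hpr⟩ := F.sys.surj 32 (by norm_num)
  have hr1 : bb (p r) 1 = false := by rw [hpr]; decide +kernel
  have hrx := (F.comm_x hr).2 hr1
  have hA : Acts z Q p (s * r) (rho 16) := by
    have := F.sys.acts_mul (show one.length = 6 from rfl) hsA (F.sys.acts_of_mem hr)
    rwa [show comp (rho 16) one = rho 16 by decide +kernel] at this
  refine ⟨s, hs, r, hr, hpr, hrx, hA, ?_, ?_⟩
  · have e := F.commutator_eq (by decide +kernel) hs hsz hsA hr hr1
    rw [hpr, show bb 16 32 = true by decide +kernel, mul_inv_eq_iff_eq_mul] at e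
    have e2 := F.sq_eq (by decide +kernel) hs hsz hsA
    rw [show qb 16 = true by decide +kernel] at e2
    have e3 := F.sys.sq r hr
    rw [hpr, show qb 32 = true by decide +kernel] at e3
    change r * r = z at e3
    change s * s = X at e2
    change s * r * s⁻¹ = z * X * r at e
    calc s * r * (s * r) = s * r * s⁻¹ * (s * s) * r := by group
      _ = z * (X * (r * X)) * r := by rw [e, e2]; simp only [mul_assoc]
      _ = z * (r * r) := by
          rw [hrx.eq, ← mul_assoc X X, F.sys'.large.mul_self_z, one_mul, mul_assoc]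
      _ = 1 := by rw [e3, F.sys.large.mul_self_z]
  · intro a ha hfix
    have h := List.all_eq_true.1 outer_fix_perp _ (List.mem_range.2 (F.sys.lt a ha))
    simp only [fixB, hfix, beq_self_eq_true, Bool.not_true, Bool.false_or, Bool.and_eq_true,
      Bool.not_eq_true'] at h
    have e := F.commutator_eq (by decide +kernel) hs hsz hsA ha h.1
    rw [bb_comm 16, h.2] at e
    have e' : s * a * s⁻¹ = a := mul_inv_eq_one.1 (e.trans (one_mul (1 : G)))
    calc s * r * a * (s * r)⁻¹ = s * (r * a * r⁻¹) * s⁻¹ := by group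
      _ = s * a * s⁻¹ * (s * sg z (bb 32 (p a)) * s⁻¹) := by rw [F.sys.conj_eq ha hr, hpr]; group
      _ = _ := by rw [e', (F.sys.sg_comm hsz _).eq, mul_inv_cancel_right]

/-- Conjugation sends `tc` to `tc * z`. -/
theorem far_mul_z {t : G} (htA : Acts z Q p t (rho 16)) (htt : t * t = 1)
    (ht : ∀ a ∈ Q, app (rho 16) (p a) = p a → t * a * t⁻¹ = a * sg z (bb 32 (p a))) : IsConj t (t * z) := by
  obtain ⟨β, hβ, hpβ⟩ := F.sys.surj 16 (by norm_num)
  have e := ht β hβ (by rw [hpβ]; decide +kernel)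
  rw [hpβ, show bb 32 16 = true by decide +kernel] at e
  change t * β * t⁻¹ = β * z at e
  refine isConj_iff.2 ⟨β, ?_⟩
  have e' : t * β * t⁻¹ * β⁻¹ = z := by rw [e, (F.sys.large.commute_z hβ).eq, mul_inv_cancel_right]
  calc β * t * β⁻¹ = t * t * (β * t * β⁻¹) := by rw [htt, one_mul]
    _ = t * (t * β * t⁻¹ * β⁻¹) := by rw [inv_of_sq htt]; group
    _ = _ := by rw [e']

/-- Every involution inducing `rho 16` is conjugate to a fixed one. -/
theorem far_class {t t' : G} (htA : Acts z Q p t (rho 16)) (htt : t * t = 1)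
    (ht : ∀ a ∈ Q, app (rho 16) (p a) = p a → t * a * t⁻¹ = a * sg z (bb 32 (p a)))
    (htA' : Acts z Q p t' (rho 16)) (htt' : t' * t' = 1) : IsConj t t' := by
  obtain ⟨q, hq, rfl, hfix, e⟩ := F.sys.coset htt htt' htA htA'
  have hsol : qb (p q) = bb 32 (p q) :=
    F.sys.sg_inj (mul_left_cancel (e.symm.trans (ht q hq hfix)))
  have h1 := List.all_eq_true.1 outer_fix _ (List.mem_range.2 (F.sys.lt q hq))
  simp only [fixB, hfix, beq_self_eq_true, Bool.not_true, Bool.false_or, hsol,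
    List.any_eq_true, Bool.and_eq_true, beq_iff_eq, List.all_eq_true, Bool.or_eq_true, Bool.not_eq_true',
    beq_eq_false_iff_ne] at h1
  obtain ⟨w, -, hcomm, hlam⟩ := h1
  obtain ⟨hl, d, hd⟩ := F.sys.acts_word w
  set t2 := d * (t * q) * d⁻¹ with ht2
  have ht2A : Acts z Q p t2 (rho 16) := F.sys.acts_conj hl (F.rho_len 16) (F.rho_len 16) hd htA' hcomm
  have ht22 : t2 * t2 = 1 := conj_sq_one htt' d
  obtain ⟨q2, hq2, e2, hfix2, e2'⟩ := F.sys.coset htt ht22 htA ht2A
  have hsol2 : qb (p q2) = bb 32 (p q2) :=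
    F.sys.sg_inj (mul_left_cancel (e2'.symm.trans (ht q2 hq2 hfix2)))
  have hshift : ∀ c ∈ Q, ∀ v ∈ Q, app (rho 16) (p v) = p v →
      t * c * v * (t * c)⁻¹ = v * sg z (bb (32 ^^^ p c) (p v)) := by
    intro c hc v hv hvfix
    rw [show t * c * v * (t * c)⁻¹ = t * (c * v * c⁻¹) * t⁻¹ by group, F.sys.conj_eq hv hc,
      show t * (v * sg z (bb (p c) (p v))) * t⁻¹ = t * v * t⁻¹ * (t * sg z (bb (p c) (p v)) * t⁻¹) by group,
      ht v hv hvfix, (F.sys.sg_comm htA.1 _).eq, mul_inv_cancel_right, mul_assoc, F.sys.sg_mul,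
      ← bb_xor_left]
  have hperp : ∀ y ∈ List.range 64, ¬ app (rho 16) y = y ∨ bb (p q2) y = false := by
    intro y hy
    by_cases hy' : app (rho 16) y = y
    · right
      obtain ⟨u, hu, rfl⟩ := F.sys.surj y (List.mem_range.1 hy)
      set v := d⁻¹ * u * d with hv
      have hvQ : v ∈ Q := by
        have := F.sys.large.conj_mem hd.1.inv_left hu
        rwa [inv_inv] at this
      have hu' : u = d * v * d⁻¹ := by rw [hv]; group
      have hvfix : app (rho 16) (p v) = p v := by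
        refine F.sys.app_inj hd ?_ (F.sys.lt v hvQ) ?_
        · rw [← htA.2 v hvQ]; exact F.sys.lt _ (F.sys.large.conj_mem htA.1 hvQ)
        · rw [← app_comp (F.rho_len 16), hcomm, app_comp hl, ← hd.2 v hvQ, ← hu']
          exact hy'
      have e3 := hshift q hq v hvQ hvfix
      have e4 : t2 * u * t2⁻¹ = u * sg z (bb (32 ^^^ p q) (p v)) := by
        rw [ht2, show d * (t * q) * d⁻¹ * u * (d * (t * q) * d⁻¹)⁻¹ = d * (t * q * v * (t * q)⁻¹) * d⁻¹ by
          rw [hv]; group, e3, show d * (v * sg z (bb (32 ^^^ p q) (p v))) * d⁻¹ =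
          d * v * d⁻¹ * (d * sg z (bb (32 ^^^ p q) (p v)) * d⁻¹) by group, ← hu',
          (F.sys.sg_comm hd.1 _).eq, mul_inv_cancel_right]
      have e5 : t2 * u * t2⁻¹ = u * sg z (bb (32 ^^^ p q2) (p u)) := by
        rw [e2]; exact hshift q2 hq2 u hu hy'
      have e6 := F.sys.sg_inj (mul_left_cancel (e4.symm.trans e5))
      have e7 := (hlam (p v) (List.mem_range.2 (F.sys.lt v hvQ))).resolve_left (fun hn => hn hvfix)
      rw [← hd.2 v hvQ, ← hu'] at e7
      rw [← e7, bb_xor_left] at e6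
      revert e6
      cases bb 32 (p u) <;> cases bb (p q2) (p u) <;> simp
    · exact Or.inl hy'
  have him := List.all_eq_true.1 outer_im _ (List.mem_range.2 (F.sys.lt q2 hq2))
  have hall : ((List.range 64).all fun y => !(fixB (rho 16) y) || !(bb (p q2) y)) = true := by
    rw [List.all_eq_true]
    intro y hy
    rcases hperp y hy with e | e
    · simp [fixB, e]
    · simp [e]
  rw [hall] at him
  simp only [fixB, hfix2, beq_self_eq_true, Bool.not_true, Bool.false_or, hsol2] at him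
  have h2 : IsConj t t2 := by
    rw [e2]
    obtain ⟨β, -, e3 | e3⟩ := F.sys.conj_of_im htt htA hq2 him
    · exact isConj_iff.2 ⟨β, e3⟩
    · replace e3 : IsConj t (t * q2 * z) := isConj_iff.2 ⟨β, e3⟩
      have hz2 : IsConj t2 (t2 * z) := by
        refine F.far_mul_z ht2A ht22 fun u hu hufix => ?_
        rw [e2, hshift q2 hq2 u hu hufix, bb_xor_left,
          (hperp (p u) (List.mem_range.2 (F.sys.lt u hu))).resolve_left (fun hn => hn hufix), Bool.xor_false]
      rw [e2] at hz2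
      exact e3.trans hz2.symm
  exact h2.trans (isConj_iff.2 ⟨d, rfl⟩ : IsConj (t * q) t2).symm

end Frame

end CfsgLib.LocalEvenB.SuzType
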